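import Groth.Agent.ConsPairLib.Basic
import Groth.Agent.LimLib.Smooth

/-!
Descent statements in the form used for pairs of algebraic schemes.
-/

set_option backward.isDefEq.respectTransparency false
set_option backward.defeqAttrib.useBackward true

universe u

open CategoryTheory CategoryTheory.Limits AlgebraicGeometry

namespace Groth.Agent.ConsPairLib

lemma descends_mono_class {P R R' : MorphismProperty Scheme.{u}} (h : LimLib.Descends P R)
    (hR : R' ≤ R) : LimLib.Descends P R' := by
  intro I _ _ D c hc hD hqc hqs i X₀ f₀ h₁ h₂ hQ X q f hf hP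
  exact h D c hc hD hqc hqs i X₀ f₀ h₁ h₂ (hR _ hQ) X q f hf hP

lemma lfp_le_lft : (@LocallyOfFinitePresentation : MorphismProperty Scheme.{u}) ≤ @LocallyOfFiniteType := fun _ _ _ h => by
  have := h; infer_instance

/-- Quasi-finite morphisms. -/
def qfMor : MorphismProperty Scheme.{u} := fun _ _ g =>
  LocallyOfFiniteType g ∧ QuasiCompact g ∧ LocallyQuasiFinite g

instance : (qfMor.{u}).IsStableUnderBaseChange :=
  ⟨fun sq h => ⟨MorphismProperty.of_isPullback sq h.1, MorphismProperty.of_isPullback sq h.2.1,
      MorphismProperty.of_isPullback sq h.2.2⟩⟩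

theorem descends_qfMor : LimLib.Descends.{u} qfMor @LocallyOfFinitePresentation := by
  intro I _ _ D c hc hD hqc hqs i X₀ f₀ h₁ h₂ hQ X q f hf hP
  obtain ⟨j, φ, hj⟩ := EGA43Lim.descends_locallyQuasiFinite D c hc hD hqc hqs i X₀ f₀ h₁ h₂
    (lfp_le_lft _ _ _ hQ) X q f hf hP.2.2
  have : LocallyOfFinitePresentation f₀ := hQ
  have : QuasiCompact f₀ := (quasiCompact_iff_compactSpace (f := f₀)).mpr inferInstance |> fun h => h
  exact ⟨j, φ, MorphismProperty.pullback_snd _ _ inferInstance,
    MorphismProperty.pullback_snd _ _ this, hj⟩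

end Groth.Agent.ConsPairLib
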