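import Groth.Prelude.Def_MoreMor
import Groth.Agent.ConsPairLib.Props
import Mathlib.AlgebraicGeometry.QuasiAffine
import Mathlib.AlgebraicGeometry.Morphisms.Affine

/-!
Quasi-affine morphisms: locality, base change, descent along limits.
-/

set_option backward.isDefEq.respectTransparency false
set_option backward.defeqAttrib.useBackward true

universe u

open CategoryTheory CategoryTheory.Limits AlgebraicGeometry TopologicalSpace

namespace Groth.Agent.ConsPairLib

/-- The source is quasi-affine. -/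
def qaTarget : AffineTargetMorphismProperty.{u} := fun X _ _ _ => X.IsQuasiAffine

lemma isQuasiAffine_of_iso {X Y : Scheme.{u}} (e : X ≅ Y) [Y.IsQuasiAffine] : X.IsQuasiAffine :=
  Scheme.IsQuasiAffine.of_isAffineHom e.hom

/-- Quasi-affineness descends along a standard cover of an affine target. -/
lemma isQuasiAffine_of_cover {X Y : Scheme.{u}} [IsAffine Y] (f : X ⟶ Y) (s : Finset Γ(Y, ⊤))
    (hs : Ideal.span (s : Set Γ(Y, ⊤)) = ⊤)
    (h : ∀ r : s, Scheme.IsQuasiAffine (f ⁻¹ᵁ Y.basicOpen r.1 : Scheme.{u})) : X.IsQuasiAffine := by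
  have hcov : ∀ x : X, ∃ r : s, f x ∈ Y.basicOpen r.1 := fun x => by
    have := (isAffineOpen_top Y).self_le_iSup_basicOpen_iff.2 hs (Set.mem_univ (f x))
    obtain ⟨⟨r, hr⟩, hx⟩ := Opens.mem_iSup.1 this
    exact ⟨⟨r, hr⟩, hx⟩
  have hX : (⊤ : X.Opens) = ⨆ r : s, f ⁻¹ᵁ Y.basicOpen r.1 :=
    le_antisymm (fun x _ => Opens.mem_iSup.2 (by obtain ⟨r, hr⟩ := hcov x; exact ⟨r, hr⟩)) le_top
  haveI : CompactSpace X := by
    have e : (⊤ : Set X) = ⋃ r : s, ((f ⁻¹ᵁ Y.basicOpen r.1 : X.Opens) : Set X) := by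
      rw [← Opens.coe_iSup, ← hX]; rfl
    refine ⟨?_⟩
    show IsCompact (⊤ : Set X)
    rw [e]
    exact isCompact_iUnion fun r => isCompact_iff_compactSpace.2 (h r).toCompactSpace
  haveI : QuasiSeparatedSpace X := by
    refine QuasiSeparatedSpace.of_isOpenCover (U := fun r : s => f ⁻¹ᵁ Y.basicOpen r.1) hX.symm
      (fun r => ?_) (fun r => ?_)
    · haveI : QuasiSeparatedSpace Y := inferInstance
      rw [Scheme.preimage_basicOpen_top]
      exact isRetrocompact_basicOpen _
    · haveI := h r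
      haveI : IsSeparated (terminal.from ((f ⁻¹ᵁ Y.basicOpen r.1 : X.Opens) : Scheme.{u})) :=
        Scheme.IsSeparated.isSeparated_terminal_from
      exact isQuasiSeparated_iff_quasiSeparatedSpace _ (f ⁻¹ᵁ Y.basicOpen r.1).2 |>.2
        (quasiSeparatedSpace_of_quasiSeparated (terminal.from ((f ⁻¹ᵁ Y.basicOpen r.1 : X.Opens) : Scheme.{u})))
  refine Scheme.IsQuasiAffine.of_forall_exists_mem_basicOpen _ fun x => ?_
  obtain ⟨r, hr⟩ := hcov x
  haveI : Scheme.IsQuasiAffine (X.basicOpen (f.appTop r.1) : Scheme.{u}) := by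
    rw [← Scheme.preimage_basicOpen_top]; exact h r
  have hr' : x ∈ X.basicOpen (f.appTop r.1) := by
    rw [← Scheme.preimage_basicOpen_top]; exact hr
  obtain ⟨_, ⟨_, ⟨t, ht, rfl⟩, rfl⟩, hxt, -⟩ :=
    (Scheme.IsQuasiAffine.isBasis_basicOpen
      (X.basicOpen (f.appTop r.1) : Scheme.{u})).exists_subset_of_mem_open
      (Set.mem_univ (⟨x, hr'⟩ : (X.basicOpen (f.appTop r.1) : Scheme.{u}))) isOpen_univ
  set t' : Γ(X, X.basicOpen (f.appTop r.1)) := (X.basicOpen (f.appTop r.1)).topIso.hom t with ht'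
  haveI := isLocalization_basicOpen_of_qcqs (X := X) isCompact_univ isQuasiSeparated_univ
    (f.appTop r.1)
  obtain ⟨⟨a, ⟨_, n, rfl⟩⟩, ha⟩ := IsLocalization.surj (M := .powers (f.appTop r.1)) t'
  refine ⟨f.appTop r.1 * a, ?_⟩
  have hbo : X.basicOpen (f.appTop r.1 * a) = X.basicOpen t' := by
    have hu : IsUnit (algebraMap Γ(X, ⊤) Γ(X, X.basicOpen (f.appTop r.1)) (f.appTop r.1 ^ n)) :=
      IsLocalization.map_units _ (⟨_, n, rfl⟩ : Submonoid.powers (f.appTop r.1))
    have h1 : X.basicOpen (algebraMap Γ(X, ⊤) Γ(X, X.basicOpen (f.appTop r.1)) a) =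
        X.basicOpen (f.appTop r.1) ⊓ X.basicOpen a := Scheme.basicOpen_res _ _ _
    rw [Scheme.basicOpen_mul, ← h1, ← ha, Scheme.basicOpen_mul, Scheme.basicOpen_of_isUnit _ hu,
      inf_eq_left]
    exact X.basicOpen_le _
  rw [hbo]
  have himg : (X.basicOpen (f.appTop r.1)).ι ''ᵁ
      ((X.basicOpen (f.appTop r.1) : Scheme.{u}).basicOpen t) = X.basicOpen t' := by
    rw [ht', Scheme.image_basicOpen]; simp only [Scheme.Opens.ι_appIso, Scheme.Opens.topIso]; exact (Scheme.basicOpen_res_eq _ _ _).symm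
  rw [← himg]
  exact ⟨ht.image_of_isOpenImmersion _, ⟨⟨x, hr'⟩, hxt, rfl⟩⟩

instance : (qaTarget.{u}).IsLocal where
  respectsIso := by
    apply AffineTargetMorphismProperty.respectsIso_mk
    · intro X Y Z e f _ h
      have : Y.IsQuasiAffine := h
      exact isQuasiAffine_of_iso e
    · intro X Y Z e f _ h
      exact h
  to_basicOpen := by
    intro X Y _ f r h
    have : X.IsQuasiAffine := h
    haveI : IsAffine (Y.basicOpen r : Scheme.{u}) := (isAffineOpen_top Y).basicOpen r
    haveI : IsAffineHom (Y.basicOpen r).ι := inferInstance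
    haveI : IsAffineHom (f ⁻¹ᵁ Y.basicOpen r).ι :=
      MorphismProperty.of_isPullback (isPullback_morphismRestrict f _) inferInstance
    exact Scheme.IsQuasiAffine.of_isAffineHom (f ⁻¹ᵁ Y.basicOpen r).ι
  of_basicOpenCover := by
    intro X Y _ f s hs h
    exact isQuasiAffine_of_cover f s hs h

instance : HasAffineProperty (fun {X Y} (f : X ⟶ Y) => MoreMor.IsQuasiAffineHom f) qaTarget.{u} where
  isLocal_affineProperty := inferInstance
  eq_targetAffineLocally' := by
    ext X Y f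
    show MoreMor.IsQuasiAffineHom f ↔ ∀ U : Y.affineOpens, _
    refine ⟨fun h U => h.2 U U.2, fun h => ⟨?_, fun V hV => h ⟨V, hV⟩⟩⟩
    rw [HasAffineProperty.eq_targetAffineLocally (P := @QuasiCompact)]
    intro U
    have : Scheme.IsQuasiAffine (f ⁻¹ᵁ (U : Y.Opens) : Scheme.{u}) := h U
    exact this.toCompactSpace

/-- Quasi-affine morphisms, as a morphism property. -/
abbrev qaMor : MorphismProperty Scheme.{u} := fun _ _ f => MoreMor.IsQuasiAffineHom f

instance : (qaMor.{u}).IsStableUnderBaseChange := by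
  apply HasAffineProperty.isStableUnderBaseChange
  apply AffineTargetMorphismProperty.IsStableUnderBaseChange.mk
  intro X Y S _ _ f g h
  have : Y.IsQuasiAffine := h
  haveI : IsAffineHom (pullback.snd f g) :=
    MorphismProperty.pullback_snd _ _ (inferInstanceAs (IsAffineHom f))
  exact Scheme.IsQuasiAffine.of_isAffineHom (pullback.snd f g)

theorem descends_qaMor : LimLib.Descends.{u} qaMor @LocallyOfFinitePresentation := by
  haveI : IsZariskiLocalAtTarget qaMor.{u} := inferInstance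
  apply LimLib.Descends.of_affine
  intro I _ _ D c hc hD i X₀ f₀ _ _ _ X q f hf hP
  haveI : ∀ i, IsAffine (D.obj i) := hD
  haveI : ∀ (i j : I) (a : i ⟶ j), IsAffineHom (D.map a) := fun i j a => inferInstance
  haveI : IsAffine c.pt := Scheme.isAffine_of_isLimit c hc
  haveI : X.IsQuasiAffine := (HasAffineProperty.iff_of_isAffine (P := qaMor.{u})).1 hP
  haveI : (LimLib.bcCone hf).pt.IsQuasiAffine := ‹X.IsQuasiAffine›
  obtain ⟨j, hj⟩ := Scheme.exists_isQuasiAffine_of_isLimit _ _ (LimLib.isLimitBcCone hc hf)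
  exact ⟨j.left, j.hom, (HasAffineProperty.iff_of_isAffine (P := qaMor.{u})).2 hj⟩

end Groth.Agent.ConsPairLib
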