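import Groth.Agent.ConsPairLib.Basic
import Groth.Agent.ConsPropLib.BaseChange
import Groth.Agent.LimLib.FGSub
import Groth.Agent.ProConsPre.Basic
import Mathlib.RingTheory.Noetherian.Basic

/-!
Loci of (ind-)constructible relations over an arbitrary base, by reduction to a base of finite type
over the integers.
-/

set_option backward.isDefEq.respectTransparency false
set_option backward.defeqAttrib.useBackward true

universe u

open CategoryTheory CategoryTheory.Limits AlgebraicGeometry Topology Opposite Set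

namespace Groth.Agent.ConsPairLib

/-- Over an affine scheme, the system of Noetherian affine schemes of finite type over the integers. -/
lemma exists_noetherian_limit (A : CommRingCat.{u}) :
    ∃ (I : Type u) (_ : SmallCategory I) (_ : IsCofiltered I) (D : I ⥤ Scheme.{u}) (c : Cone D)
      (_ : c.pt ≅ Spec A),
      Nonempty (IsLimit c) ∧ (∀ i, IsAffine (D.obj i)) ∧ (∀ i, IsNoetherian (D.obj i)) := by
  letI : Algebra (ULift.{u} ℤ) A :=
    ((Int.castRingHom A).comp ULift.ringEquiv.toRingHom).toAlgebra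
  classical
  refine ⟨(Finset A)ᵒᵖ, inferInstance, inferInstance, LimLib.fgDiagram (ULift.{u} ℤ) A,
    LimLib.fgCone (ULift.{u} ℤ) A, Iso.refl _, ⟨LimLib.isLimitFgCone _ _⟩,
    fun i => inferInstance, fun i => ?_⟩
  haveI : IsNoetherianRing (ULift.{u} ℤ) :=
    isNoetherianRing_of_ringEquiv ℤ ULift.ringEquiv.symm
  haveI : IsNoetherianRing (Algebra.adjoin (ULift.{u} ℤ) (i.unop : Set A)) :=
    isNoetherianRing_of_fg (Subalgebra.fg_adjoin_finset _)
  exact inferInstanceAs (IsNoetherian (Spec (CommRingCat.of _)))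

variable {I : Type u} [SmallCategory I] [IsCofiltered I] {D : I ⥤ Scheme.{u}} {c : Cone D}
  (hc : IsLimit c) [∀ i, IsAffine (D.obj i)] [∀ i, IsNoetherian (D.obj i)]

include hc in
omit [∀ i, IsNoetherian (D.obj i)] in
lemma exists_common_model {X Y : Scheme.{u}} (u : X ⟶ c.pt) (v : Y ⟶ c.pt)
    [LocallyOfFinitePresentation u] [LocallyOfFinitePresentation v]
    [CompactSpace X] [QuasiSeparatedSpace X] [CompactSpace Y] [QuasiSeparatedSpace Y] :
    ∃ (k : I) (X₀ Y₀ : Scheme.{u}) (u₀ : X₀ ⟶ D.obj k) (v₀ : Y₀ ⟶ D.obj k) (qX : X ⟶ X₀)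
      (qY : Y ⟶ Y₀),
      LocallyOfFinitePresentation u₀ ∧ LocallyOfFinitePresentation v₀ ∧
      CompactSpace X₀ ∧ QuasiSeparatedSpace X₀ ∧ CompactSpace Y₀ ∧ QuasiSeparatedSpace Y₀ ∧
      IsPullback qX u u₀ (c.π.app k) ∧ IsPullback qY v v₀ (c.π.app k) := by
  obtain ⟨i₁, X₁, u₁, g₁, a₁, b₁, c₁, s₁⟩ := LimLib.hasModel hc u
  obtain ⟨i₂, Y₂, v₂, g₂, a₂, b₂, c₂, s₂⟩ := LimLib.hasModel hc v
  obtain ⟨k, φ₁, φ₂, -⟩ := IsCofilteredOrEmpty.cone_objs i₁ i₂
  obtain ⟨d₁, e₁, f₁, t₁⟩ := LimLib.HasModel.at_finer a₁ b₁ c₁ s₁ φ₁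
  obtain ⟨d₂, e₂, f₂, t₂⟩ := LimLib.HasModel.at_finer a₂ b₂ c₂ s₂ φ₂
  exact ⟨k, _, _, _, _, _, _, d₁, d₂, e₁, f₁, e₂, f₂, t₁, t₂⟩

include hc in
lemma exists_model_pair {X Y : Scheme.{u}} (u : X ⟶ c.pt) (v : Y ⟶ c.pt)
    [LocallyOfFinitePresentation u] [LocallyOfFinitePresentation v]
    [CompactSpace X] [QuasiSeparatedSpace X] [CompactSpace Y] [QuasiSeparatedSpace Y] :
    ∃ (T : Scheme.{u}) (h : c.pt ⟶ T) (X₀ Y₀ : Scheme.{u}) (u₀ : X₀ ⟶ T) (v₀ : Y₀ ⟶ T)
      (qX : X ⟶ X₀) (qY : Y ⟶ Y₀), IsNoetherian T ∧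
        LocallyOfFiniteType u₀ ∧ QuasiCompact u₀ ∧ LocallyOfFiniteType v₀ ∧ QuasiCompact v₀ ∧
          IsPullback qX u u₀ h ∧ IsPullback qY v v₀ h := by
  obtain ⟨k, X₀, Y₀, u₀, v₀, qX, qY, a₁, a₂, b₁, c₁, b₂, c₂, s₁, s₂⟩ := exists_common_model hc u v
  exact ⟨D.obj k, c.π.app k, X₀, Y₀, u₀, v₀, qX, qY, inferInstance, inferInstance,
    quasiCompact_of_compactSpace u₀, inferInstance, quasiCompact_of_compactSpace v₀, s₁, s₂⟩

include hc in
lemma exists_model_mor {X Y : Scheme.{u}} (f : X ⟶ Y) (g : Y ⟶ c.pt)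
    [LocallyOfFinitePresentation (f ≫ g)] [LocallyOfFinitePresentation g]
    [CompactSpace X] [QuasiSeparatedSpace X] [CompactSpace Y] [QuasiSeparatedSpace Y] :
    ∃ (T : Scheme.{u}) (h : c.pt ⟶ T) (X₀ Y₀ : Scheme.{u}) (f₀ : X₀ ⟶ Y₀) (g₀ : Y₀ ⟶ T)
      (qX : X ⟶ X₀) (qY : Y ⟶ Y₀), IsNoetherian T ∧
        LocallyOfFiniteType g₀ ∧ QuasiCompact g₀ ∧ LocallyOfFiniteType (f₀ ≫ g₀) ∧
          QuasiCompact (f₀ ≫ g₀) ∧ IsPullback qY g g₀ h ∧ IsPullback qX f f₀ qY := by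
  obtain ⟨k, X₀, Y₀, u₀, v₀, qX, qY, a₁, a₂, b₁, c₁, b₂, c₂, s₁, s₂⟩ :=
    exists_common_model hc (f ≫ g) g
  haveI : ∀ (i j : I) (a : i ⟶ j), IsAffineHom (D.map a) := fun i j a => inferInstance
  haveI := quasiCompact_of_compactSpace u₀
  haveI := quasiCompact_of_compactSpace v₀
  haveI := QuasiSeparated.of_quasiSeparatedSpace u₀
  obtain ⟨j, fj, qXj, qYj, hfj, hYj, hsq⟩ := exists_stage_hom D c hc k u₀ v₀ s₁ s₂ f rfl
  refine ⟨D.obj j.left, c.π.app j.left, _, _, fj, pullback.snd v₀ (D.map j.hom), qXj, qYj,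
    inferInstance, inferInstance, inferInstance, ?_, ?_, hYj, hsq⟩
  · rw [hfj]; infer_instance
  · rw [hfj]; infer_instance

lemma isIndConstructible_of_isOpenCover {S : Scheme.{u}} {ι : Type*} {U : ι → S.Opens}
    (hU : TopologicalSpace.IsOpenCover U) {E : Set S}
    (H : ∀ i, ProCons.IsIndConstructible ((U i).ι ⁻¹' E)) : ProCons.IsIndConstructible E := by
  intro x
  obtain ⟨i, hi⟩ := hU.exists_mem x
  obtain ⟨W, hWo, hxW, Ts, hTs, e⟩ := H i (⟨x, hi⟩ : (U i : Scheme.{u}))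
  let V : Set S := Subtype.val '' (W : Set ↥(U i : Set S))
  have hV : IsOpen V := (U i).2.isOpenMap_subtype_val _ hWo
  let e' : ↥W ≃ₜ ↥V :=
    (Equiv.Set.image _ (W : Set ↥(U i : Set S)) Subtype.val_injective).toHomeomorphOfIsInducing
      ((U i).2.isOpenEmbedding_subtypeVal.restrict (Set.mapsTo_image _ _)
        hWo).isInducing
  refine ⟨V, hV, ⟨_, hxW, rfl⟩, Set.preimage e'.symm '' Ts, ?_, ?_⟩
  · rintro _ ⟨T, hT, rfl⟩
    exact (hTs T hT).preimage_of_isOpenEmbedding e'.symm.isOpenEmbedding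
  · rw [Set.sUnion_image, ← Set.preimage_sUnion, ← e]
    ext a
    obtain ⟨w, rfl⟩ := e'.surjective a
    rw [Set.mem_preimage, Set.mem_preimage, Set.mem_preimage, e'.symm_apply_apply]
    rfl

lemma isIndConstructible_preimage {X Y : Scheme.{u}} (f : X ⟶ Y) {T : Set Y}
    (hT : ProCons.IsIndConstructible T) : ProCons.IsIndConstructible (f ⁻¹' T) := by
  intro x
  obtain ⟨U, hU, hxU, S, hS, hE⟩ := hT (f x)
  refine ⟨f ⁻¹' U, hU.preimage f.continuous, hxU, _,
    Groth.Agent.ProConsPre.preimage_family f ⟨U, hU⟩ hS, ?_⟩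
  rw [Set.sUnion_image, ← Set.preimage_sUnion]
  exact congrArg (Set.preimage (Set.restrictPreimage U f)) hE

section Loci

variable {X Y S : Scheme.{u}}

lemma affineOpens_isOpenCover :
    TopologicalSpace.IsOpenCover (fun V : S.affineOpens => (V : S.Opens)) := iSup_affineOpens_eq_top S

/-- The datum over an affine open comes from a Noetherian base. -/
lemma exists_model_pair_of_isAffineOpen (u : X ⟶ S) (v : Y ⟶ S)
    [LocallyOfFinitePresentation u] [QuasiCompact u] [QuasiSeparated u]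
    [LocallyOfFinitePresentation v] [QuasiCompact v] [QuasiSeparated v]
    {V : S.Opens} (hV : IsAffineOpen V) :
    ∃ (T : Scheme.{u}) (h : (V : Scheme.{u}) ⟶ T) (X₀ Y₀ : Scheme.{u}) (u₀ : X₀ ⟶ T) (v₀ : Y₀ ⟶ T),
      IsNoetherian T ∧
        LocallyOfFiniteType u₀ ∧ QuasiCompact u₀ ∧ LocallyOfFiniteType v₀ ∧ QuasiCompact v₀ ∧
          ∀ (P : ∀ ⦃X Y T : Scheme.{u}⦄, (X ⟶ T) → (Y ⟶ T) → Prop),
            ConsPropPair.IsFieldStablePair P →
              V.ι ⁻¹' ConsPropPair.locusPair P u v = h ⁻¹' ConsPropPair.locusPair P u₀ v₀ := by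
  obtain ⟨I, _, _, D, c, e, ⟨hc⟩, _, _⟩ := exists_noetherian_limit Γ(S, V)
  let p : c.pt ⟶ S := e.hom ≫ hV.isoSpec.inv ≫ V.ι
  haveI : IsAffine c.pt := .of_isIso e.hom
  haveI : CompactSpace ↥(pullback u p) := QuasiCompact.compactSpace_of_compactSpace (pullback.snd u p)
  haveI : CompactSpace ↥(pullback v p) := QuasiCompact.compactSpace_of_compactSpace (pullback.snd v p)
  haveI : QuasiSeparatedSpace ↥(pullback u p) :=
    quasiSeparatedSpace_of_quasiSeparated (pullback.snd u p)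
  haveI : QuasiSeparatedSpace ↥(pullback v p) :=
    quasiSeparatedSpace_of_quasiSeparated (pullback.snd v p)
  obtain ⟨T, h, X₀, Y₀, u₀, v₀, qX, qY, hT, a, b, a', b', sX, sY⟩ :=
    exists_model_pair hc (pullback.snd u p) (pullback.snd v p)
  refine ⟨T, hV.isoSpec.hom ≫ e.inv ≫ h, X₀, Y₀, u₀, v₀, hT, a, b, a', b', fun P hP => ?_⟩
  have h₁ := ConsPropLib.locusPair_preimage hP (IsPullback.of_hasPullback u p)
    (IsPullback.of_hasPullback v p)
  rw [ConsPropLib.locusPair_preimage hP sX sY] at h₁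
  simp only [Scheme.Hom.comp_base, TopCat.coe_comp, Set.preimage_comp]
  rw [h₁, ← Set.preimage_comp, ← Set.preimage_comp, ← TopCat.coe_comp, ← TopCat.coe_comp,
    ← Scheme.Hom.comp_base, ← Scheme.Hom.comp_base]
  simp [p]

theorem isLocallyConstructible_locusPair {P : ∀ ⦃X Y T : Scheme.{u}⦄, (X ⟶ T) → (Y ⟶ T) → Prop}
    (hP : ConsPropPair.IsConsPair P) (u : X ⟶ S) (v : Y ⟶ S)
    [LocallyOfFinitePresentation u] [QuasiCompact u] [QuasiSeparated u]
    [LocallyOfFinitePresentation v] [QuasiCompact v] [QuasiSeparated v] :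
    IsLocallyConstructible (ConsPropPair.locusPair P u v) := by
  refine IsLocallyConstructible.of_isOpenCover affineOpens_isOpenCover fun V => ?_
  obtain ⟨T, h, X₀, Y₀, u₀, v₀, _, _, _, _, _, e⟩ := exists_model_pair_of_isAffineOpen u v V.2
  show IsLocallyConstructible ((V : S.Opens).ι ⁻¹' ConsPropPair.locusPair P u v)
  rw [e P hP.1]
  exact ProConsPre.isLocallyConstructible_preimage h
    (ConsPropLib.isConstructible_locusPair hP u₀ v₀).isLocallyConstructible

theorem isIndConstructible_locusPair {P : ∀ ⦃X Y T : Scheme.{u}⦄, (X ⟶ T) → (Y ⟶ T) → Prop}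
    (hP : ConsPropPair.IsIndConsPair P) (u : X ⟶ S) (v : Y ⟶ S)
    [LocallyOfFinitePresentation u] [QuasiCompact u] [QuasiSeparated u]
    [LocallyOfFinitePresentation v] [QuasiCompact v] [QuasiSeparated v] :
    ProCons.IsIndConstructible (ConsPropPair.locusPair P u v) := by
  refine isIndConstructible_of_isOpenCover affineOpens_isOpenCover fun V => ?_
  obtain ⟨T, h, X₀, Y₀, u₀, v₀, _, _, _, _, _, e⟩ := exists_model_pair_of_isAffineOpen u v V.2
  rw [e P hP.1]
  exact isIndConstructible_preimage h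
    (ConsPropLib.isIndConstructible_of_forall_mem (ConsPropLib.exists_trace_locusPair hP u₀ v₀))

/-- The datum over an affine open comes from a Noetherian base. -/
lemma exists_model_mor_of_isAffineOpen (f : X ⟶ Y) (g : Y ⟶ S)
    [LocallyOfFinitePresentation g] [QuasiCompact g] [QuasiSeparated g]
    [LocallyOfFinitePresentation (f ≫ g)] [QuasiCompact (f ≫ g)] [QuasiSeparated (f ≫ g)]
    {V : S.Opens} (hV : IsAffineOpen V) :
    ∃ (T : Scheme.{u}) (h : (V : Scheme.{u}) ⟶ T) (X₀ Y₀ : Scheme.{u}) (f₀ : X₀ ⟶ Y₀) (g₀ : Y₀ ⟶ T),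
      IsNoetherian T ∧ LocallyOfFiniteType g₀ ∧ QuasiCompact g₀ ∧
        LocallyOfFiniteType (f₀ ≫ g₀) ∧ QuasiCompact (f₀ ≫ g₀) ∧
          ∀ (P : ∀ ⦃X Y T : Scheme.{u}⦄, (X ⟶ Y) → (Y ⟶ T) → Prop),
            ConsProp.IsFieldStableMor P →
              V.ι ⁻¹' ConsProp.locusMor P f g = h ⁻¹' ConsProp.locusMor P f₀ g₀ := by
  obtain ⟨I, _, _, D, c, e, ⟨hc⟩, _, _⟩ := exists_noetherian_limit Γ(S, V)
  let p : c.pt ⟶ S := e.hom ≫ hV.isoSpec.inv ≫ V.ι
  haveI : IsAffine c.pt := .of_isIso e.hom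
  let g' : pullback g p ⟶ c.pt := pullback.snd g p
  let f' : pullback f (pullback.fst g p) ⟶ pullback g p := pullback.snd _ _
  have h₂ : IsPullback (pullback.fst g p) g' g p := IsPullback.of_hasPullback _ _
  have h₃ : IsPullback (pullback.fst f _) f' f (pullback.fst g p) := IsPullback.of_hasPullback _ _
  haveI : LocallyOfFinitePresentation g' :=
    MorphismProperty.of_isPullback (P := @LocallyOfFinitePresentation) h₂ ‹_›
  haveI : LocallyOfFinitePresentation (f' ≫ g') :=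
    MorphismProperty.of_isPullback (P := @LocallyOfFinitePresentation) (h₃.paste_vert h₂) ‹_›
  haveI : QuasiCompact g' := MorphismProperty.of_isPullback (P := @QuasiCompact) h₂ ‹_›
  haveI : QuasiCompact (f' ≫ g') :=
    MorphismProperty.of_isPullback (P := @QuasiCompact) (h₃.paste_vert h₂) ‹_›
  haveI : QuasiSeparated g' := MorphismProperty.of_isPullback (P := @QuasiSeparated) h₂ ‹_›
  haveI : QuasiSeparated (f' ≫ g') :=
    MorphismProperty.of_isPullback (P := @QuasiSeparated) (h₃.paste_vert h₂) ‹_›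
  haveI := QuasiCompact.compactSpace_of_compactSpace g'
  haveI := QuasiCompact.compactSpace_of_compactSpace (f' ≫ g')
  haveI := quasiSeparatedSpace_of_quasiSeparated g'
  haveI := quasiSeparatedSpace_of_quasiSeparated (f' ≫ g')
  obtain ⟨T, h, X₀, Y₀, f₀, g₀, qX, qY, hT, a, b, a', b', sY, sX⟩ := exists_model_mor hc f' g'
  refine ⟨T, hV.isoSpec.hom ≫ e.inv ≫ h, X₀, Y₀, f₀, g₀, hT, a, b, a', b', fun P hP => ?_⟩
  have h₁ := ConsPropLib.locusMor_preimage hP h₂ h₃
  rw [ConsPropLib.locusMor_preimage hP sY sX] at h₁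
  simp only [Scheme.Hom.comp_base, TopCat.coe_comp, Set.preimage_comp]
  rw [h₁, ← Set.preimage_comp, ← Set.preimage_comp, ← TopCat.coe_comp, ← TopCat.coe_comp,
    ← Scheme.Hom.comp_base, ← Scheme.Hom.comp_base]
  simp [p]

theorem isLocallyConstructible_locusMor {P : ∀ ⦃X Y T : Scheme.{u}⦄, (X ⟶ Y) → (Y ⟶ T) → Prop}
    (hP : ConsProp.IsConsMor P) (f : X ⟶ Y) (g : Y ⟶ S)
    [LocallyOfFinitePresentation g] [QuasiCompact g] [QuasiSeparated g]
    [LocallyOfFinitePresentation (f ≫ g)] [QuasiCompact (f ≫ g)] [QuasiSeparated (f ≫ g)] :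
    IsLocallyConstructible (ConsProp.locusMor P f g) := by
  refine IsLocallyConstructible.of_isOpenCover affineOpens_isOpenCover fun V => ?_
  obtain ⟨T, h, X₀, Y₀, f₀, g₀, _, _, _, _, _, e⟩ := exists_model_mor_of_isAffineOpen f g V.2
  show IsLocallyConstructible ((V : S.Opens).ι ⁻¹' ConsProp.locusMor P f g)
  rw [e P hP.1]
  exact ProConsPre.isLocallyConstructible_preimage h
    (ConsPropLib.isConstructible_locusMor hP f₀ g₀).isLocallyConstructible

theorem isIndConstructible_locusMor {P : ∀ ⦃X Y T : Scheme.{u}⦄, (X ⟶ Y) → (Y ⟶ T) → Prop}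
    (hP : ConsProp.IsIndConsMor P) (f : X ⟶ Y) (g : Y ⟶ S)
    [LocallyOfFinitePresentation g] [QuasiCompact g] [QuasiSeparated g]
    [LocallyOfFinitePresentation (f ≫ g)] [QuasiCompact (f ≫ g)] [QuasiSeparated (f ≫ g)] :
    ProCons.IsIndConstructible (ConsProp.locusMor P f g) := by
  refine isIndConstructible_of_isOpenCover affineOpens_isOpenCover fun V => ?_
  obtain ⟨T, h, X₀, Y₀, f₀, g₀, _, _, _, _, _, e⟩ := exists_model_mor_of_isAffineOpen f g V.2
  rw [e P hP.1]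
  exact isIndConstructible_preimage h
    (ConsPropLib.isIndConstructible_of_forall_mem (ConsPropLib.exists_trace_locusMor hP f₀ g₀))

end Loci

end Groth.Agent.ConsPairLib
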