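import Groth.Prelude.Def_W4ega4s0809p4Pair
import Groth.Agent.ConsPairLib.Loci
import Groth.Agent.ZClosLib.CohDescent
import Groth.Agent.LimTop.ModModel

/-!
Loci of (ind-)constructible properties of modules over an arbitrary base.
-/

set_option backward.isDefEq.respectTransparency false
set_option backward.defeqAttrib.useBackward true

universe u

open CategoryTheory CategoryTheory.Limits AlgebraicGeometry Topology Opposite Set

namespace Groth.Agent.ConsPairLib

open Groth.Agent.LimTop in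
lemma isCoh_of_isFP {X : Scheme.{u}} (F : X.Modules) [Coh.IsQCoh F] (hF : CohB1.IsFP F) :
    Coh.IsCoh F := by
  have : SheafOfModules.IsFinitePresentation (R := X.ringCatSheaf) F := hF
  exact ⟨‹_›, inferInstanceAs (SheafOfModules.IsFiniteType (R := X.ringCatSheaf) F)⟩

lemma isFP_pullback {X Y : Scheme.{u}} (g : X ⟶ Y) (F : Y.Modules) [Coh.IsQCoh F]
    (hF : CohB1.IsFP F) :
    Coh.IsQCoh ((Scheme.Modules.pullback g).obj F) ∧
      CohB1.IsFP ((Scheme.Modules.pullback g).obj F) := by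
  have : F.IsQuasicoherent := ‹_›
  have h := QCoh.isQuasicoherent_pullback g F
  exact ⟨h, LimTop.isFP_of_fpOn _ ((LimTop.fpOn_of_isFP F hF ⊤).pullback g le_top)⟩

section Preimage

variable {X X' S S' : Scheme.{u}} {P : ∀ ⦃Y T : Scheme.{u}⦄, (Y ⟶ T) → Y.Modules → Prop}

theorem locusMod_preimage (hP : ConsProp.IsFieldStableMod P)
    {u : X ⟶ S} {u' : X' ⟶ S'} {h : S' ⟶ S} {e : X' ⟶ X} [LocallyOfFiniteType u] [QuasiCompact u]
    (sq : IsPullback e u' u h) {F : X.Modules} {F' : X'.Modules} (hF : Coh.IsCoh F)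
    (iso : F' ≅ (Scheme.Modules.pullback e).obj F) :
    ConsProp.locusMod P u' F' = h ⁻¹' ConsProp.locusMod P u F := by
  ext s
  have hsq := isPullback_fiberToSpecResidueField_of_isPullback sq s
  refine (@hP _ _ _ _ _ _ _ _ inferInstance inferInstance inferInstance inferInstance
    (ConsPropLib.locallyOfFiniteType_fiberTo u _) (ConsPropLib.quasiCompact_fiberTo u _) hsq _ _
    (ZClosLib.CohDescent.isCoh_pullback _ _ hF) ?_).symm
  refine (Scheme.Modules.pullback (u'.fiberι s)).mapIso iso ≪≫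
    (LimTop.compIso (u'.fiberι s) e rfl).app F ≪≫ ?_
  exact ((LimTop.compIso _ (u.fiberι (h s)) (by simp [Scheme.Hom.fiberι, pullback.map])).app F).symm

section Noetherian

variable [IsNoetherian S]

theorem isConstructible_locusMod (hP : ConsProp.IsConsMod P) (u : X ⟶ S) [LocallyOfFiniteType u]
    [QuasiCompact u] {F : X.Modules} (hF : Coh.IsCoh F) :
    IsConstructible (ConsProp.locusMod P u F) := by
  refine ConsPropLib.isConstructible_of_integral fun T ι _ _ _ => ?_
  rw [← locusMod_preimage hP.1 (IsPullback.of_hasPullback u ι) hF (Iso.refl _)]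
  exact hP.2 (pullback.snd u ι) _ (ZClosLib.CohDescent.isCoh_pullback _ _ hF)

theorem exists_trace_locusMod (hP : ConsProp.IsIndConsMod P) (u : X ⟶ S) [LocallyOfFiniteType u]
    [QuasiCompact u] {F : X.Modules} (hF : Coh.IsCoh F) :
    ∀ x ∈ ConsProp.locusMod P u F,
      ∃ U, IsOpen U ∧ x ∈ U ∧ U ∩ closure {x} ⊆ ConsProp.locusMod P u F := by
  refine ConsPropLib.exists_trace_of_integral fun T ι _ _ _ => ?_
  rw [← locusMod_preimage hP.1 (IsPullback.of_hasPullback u ι) hF (Iso.refl _)]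
  exact hP.2 (pullback.snd u ι) _ (ZClosLib.CohDescent.isCoh_pullback _ _ hF)

end Noetherian

end Preimage

section Model

variable {I : Type u} [SmallCategory I] [IsCofiltered I] {D : I ⥤ Scheme.{u}} {c : Cone D}
  (hc : IsLimit c) [∀ i, IsAffine (D.obj i)] [∀ i, IsNoetherian (D.obj i)]

include hc in
lemma exists_model_mod {X : Scheme.{u}} (u : X ⟶ c.pt) [LocallyOfFinitePresentation u]
    [CompactSpace X] [QuasiSeparatedSpace X] (F : X.Modules) [Coh.IsQCoh F] (hF : CohB1.IsFP F) :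
    ∃ (T : Scheme.{u}) (h : c.pt ⟶ T) (X₀ : Scheme.{u}) (u₀ : X₀ ⟶ T) (q : X ⟶ X₀)
      (F₀ : X₀.Modules), IsNoetherian T ∧ LocallyOfFiniteType u₀ ∧ QuasiCompact u₀ ∧
        IsPullback q u u₀ h ∧ Coh.IsCoh F₀ ∧
          Nonempty (F ≅ (Scheme.Modules.pullback q).obj F₀) := by
  obtain ⟨k, X₁, u₁, g₁, a₁, b₁, c₁, s₁⟩ := LimLib.hasModel hc u
  haveI : ∀ (i j : I) (a : i ⟶ j), IsAffineHom (D.map a) := fun i j a => inferInstance
  haveI := quasiCompact_of_compactSpace u₁
  haveI : F.IsQuasicoherent := ‹_›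
  obtain ⟨j, _, G, hG, hGfp, ⟨e⟩⟩ := LimTop.exists_model (D := LimLib.bcDiag D k u₁)
    (c := LimLib.bcCone s₁) (LimLib.isLimitBcCone hc s₁) (i₀ := Over.mk (𝟙 k)) F hF
  haveI : Coh.IsQCoh G := hG
  exact ⟨D.obj j.left, c.π.app j.left, _, pullback.snd u₁ (D.map j.hom), _, G, inferInstance,
    inferInstance, inferInstance, LimLib.isPullback_bcCone s₁ j, isCoh_of_isFP G hGfp, ⟨e.symm⟩⟩

end Model

section Loci

variable {X S : Scheme.{u}}

/-- The datum over an affine open comes from a Noetherian base. -/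
lemma exists_model_mod_of_isAffineOpen (u : X ⟶ S)
    [LocallyOfFinitePresentation u] [QuasiCompact u] [QuasiSeparated u]
    (F : X.Modules) [Coh.IsQCoh F] (hF : CohB1.IsFP F) {V : S.Opens} (hV : IsAffineOpen V) :
    ∃ (T : Scheme.{u}) (h : (V : Scheme.{u}) ⟶ T) (X₀ : Scheme.{u}) (u₀ : X₀ ⟶ T)
      (F₀ : X₀.Modules), IsNoetherian T ∧ LocallyOfFiniteType u₀ ∧ QuasiCompact u₀ ∧
        Coh.IsCoh F₀ ∧ ∀ (P : ∀ ⦃Y T : Scheme.{u}⦄, (Y ⟶ T) → Y.Modules → Prop),
            ConsProp.IsFieldStableMod P →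
              V.ι ⁻¹' ConsProp.locusMod P u F = h ⁻¹' ConsProp.locusMod P u₀ F₀ := by
  obtain ⟨I, _, _, D, c, e, ⟨hc⟩, _, _⟩ := exists_noetherian_limit Γ(S, V)
  let p : c.pt ⟶ S := e.hom ≫ hV.isoSpec.inv ≫ V.ι
  haveI : IsAffine c.pt := .of_isIso e.hom
  haveI : CompactSpace ↥(pullback u p) := QuasiCompact.compactSpace_of_compactSpace (pullback.snd u p)
  haveI : QuasiSeparatedSpace ↥(pullback u p) :=
    quasiSeparatedSpace_of_quasiSeparated (pullback.snd u p)
  obtain ⟨hq, hfp⟩ := isFP_pullback (pullback.fst u p) F hF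
  obtain ⟨T, h, X₀, u₀, q, F₀, hT, a, b, sX, hF₀, ⟨iso⟩⟩ :=
    exists_model_mod hc (pullback.snd u p) ((Scheme.Modules.pullback (pullback.fst u p)).obj F) hfp
  refine ⟨T, hV.isoSpec.hom ≫ e.inv ≫ h, X₀, u₀, F₀, hT, a, b, hF₀, fun P hP => ?_⟩
  have h₁ := locusMod_preimage hP (IsPullback.of_hasPullback u p) (isCoh_of_isFP F hF) (Iso.refl _)
  rw [locusMod_preimage hP sX hF₀ iso] at h₁
  simp only [Scheme.Hom.comp_base, TopCat.coe_comp, Set.preimage_comp]
  rw [h₁, ← Set.preimage_comp, ← Set.preimage_comp, ← TopCat.coe_comp, ← TopCat.coe_comp,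
    ← Scheme.Hom.comp_base, ← Scheme.Hom.comp_base]
  simp [p]

variable {P : ∀ ⦃Y T : Scheme.{u}⦄, (Y ⟶ T) → Y.Modules → Prop}

theorem isLocallyConstructible_locusMod (hP : ConsProp.IsConsMod P) (u : X ⟶ S)
    [LocallyOfFinitePresentation u] [QuasiCompact u] [QuasiSeparated u]
    (F : X.Modules) [Coh.IsQCoh F] (hF : CohB1.IsFP F) :
    IsLocallyConstructible (ConsProp.locusMod P u F) := by
  refine IsLocallyConstructible.of_isOpenCover affineOpens_isOpenCover fun V => ?_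
  obtain ⟨T, h, X₀, u₀, F₀, _, _, _, hF₀, e⟩ := exists_model_mod_of_isAffineOpen u F hF V.2
  show IsLocallyConstructible ((V : S.Opens).ι ⁻¹' ConsProp.locusMod P u F)
  rw [e P hP.1]
  exact ProConsPre.isLocallyConstructible_preimage h
    (isConstructible_locusMod hP u₀ hF₀).isLocallyConstructible

theorem isIndConstructible_locusMod (hP : ConsProp.IsIndConsMod P) (u : X ⟶ S)
    [LocallyOfFinitePresentation u] [QuasiCompact u] [QuasiSeparated u]
    (F : X.Modules) [Coh.IsQCoh F] (hF : CohB1.IsFP F) :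
    ProCons.IsIndConstructible (ConsProp.locusMod P u F) := by
  refine isIndConstructible_of_isOpenCover affineOpens_isOpenCover fun V => ?_
  obtain ⟨T, h, X₀, u₀, F₀, _, _, _, hF₀, e⟩ := exists_model_mod_of_isAffineOpen u F hF V.2
  rw [e P hP.1]
  exact isIndConstructible_preimage h
    (ConsPropLib.isIndConstructible_of_forall_mem (exists_trace_locusMod hP u₀ hF₀))

end Loci

section Generic

lemma closure_subtype_generic {S : Type*} [TopologicalSpace S] {η : S} (hη : ∀ a, η ⤳ a)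
    {U : Set S} (hηU : η ∈ U) : ∀ a : ↥U, (⟨η, hηU⟩ : ↥U) ⤳ a :=
  fun a => (subtype_specializes_iff _ _).2 (hη a.1)

lemma exists_open_subset_of_isLocallyConstructible {S : Type*} [TopologicalSpace S] {η : S}
    (hη : ∀ a, η ⤳ a) {C : Set S} (hC : IsLocallyConstructible C) (h : η ∈ C) :
    η ∈ interior C := by
  obtain ⟨U, hUn, hU, hUC⟩ := hC η
  have hηU : η ∈ U := mem_of_mem_nhds hUn
  have hd := closure_subtype_generic hη hηU
  have hirr : IsIrreducible (Set.univ : Set ↥U) := by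
    have : closure {(⟨η, hηU⟩ : ↥U)} = Set.univ :=
      Set.eq_univ_of_forall fun a => (hd a).mem_closure
    rw [← this]
    exact isIrreducible_singleton.closure
  obtain ⟨W, hW, hne, hsub⟩ := ConstrLib.exists_open_subset_of_dense_constructible hirr hUC
    (fun a _ => closure_mono (Set.singleton_subset_iff.2
      (show (⟨η, hηU⟩ : ↥U) ∈ (Subtype.val ⁻¹' C) ∩ Set.univ from ⟨h, trivial⟩)) (hd a).mem_closure)
  have hmem := ConstrLib.mem_of_generic hW hne (fun a _ => (hd a).mem_closure)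
  refine mem_interior.2 ⟨Subtype.val '' W, ?_, hU.isOpenMap_subtype_val _ hW,
    ⟨_, hmem, rfl⟩⟩
  rintro _ ⟨b, hb, rfl⟩
  exact hsub ⟨hb, trivial⟩

lemma mem_interior_of_isIndConstructible {S : Type*} [TopologicalSpace S] {η : S}
    (hη : ∀ a, η ⤳ a) {C : Set S} (hC : ProCons.IsIndConstructible C) (h : η ∈ C) :
    η ∈ interior C := by
  obtain ⟨U, hU, hηU, Ts, hTs, e⟩ := hC η
  obtain ⟨T, hT, hηT⟩ : ∃ T ∈ Ts, (⟨η, hηU⟩ : ↥U) ∈ T := by
    have : (⟨η, hηU⟩ : ↥U) ∈ ⋃₀ Ts := e ▸ h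
    exact this
  have hi := exists_open_subset_of_isLocallyConstructible (closure_subtype_generic hη hηU)
    (hTs T hT) hηT
  refine mem_interior.2 ⟨Subtype.val '' interior T, ?_, hU.isOpenMap_subtype_val _ isOpen_interior,
    ⟨_, hi, rfl⟩⟩
  rintro _ ⟨b, hb, rfl⟩
  show b ∈ Subtype.val ⁻¹' C
  rw [e]
  exact ⟨T, hT, interior_subset hb⟩

end Generic

end Groth.Agent.ConsPairLib
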