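import Groth.Agent.ConsPairLib.Props
import Groth.Agent.ConsPropLib.BaseChange
import Groth.Agent.DimLift.Basic
import Groth.Agent.TopDimLib.Basic
import Mathlib.AlgebraicGeometry.AffineSpace
import Mathlib.RingTheory.NoetherNormalization
import Mathlib.RingTheory.KrullDimension.Polynomial
import Mathlib.RingTheory.Spectrum.Prime.Topology

/-!
The dimension of the fibres is a constructible property.
-/

set_option backward.isDefEq.respectTransparency false
set_option backward.defeqAttrib.useBackward true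

universe u

open CategoryTheory CategoryTheory.Limits AlgebraicGeometry Topology

namespace Groth.Agent.ConsPairLib

/-- Finite surjective morphisms. -/
def finSurj : MorphismProperty Scheme.{u} := fun _ _ g => IsFinite g ∧ Surjective g

instance : (finSurj.{u}).IsStableUnderBaseChange :=
  ⟨fun sq h => ⟨MorphismProperty.of_isPullback sq h.1, MorphismProperty.of_isPullback sq h.2⟩⟩

theorem descends_finSurj : LimLib.Descends.{u} finSurj @LocallyOfFinitePresentation := by
  intro I _ _ D c hc hD hqc hqs i X₀ f₀ h₁ h₂ hQ X q f hf hP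
  obtain ⟨j₁, φ₁, a₁⟩ := LimLib.descends_isFinite D c hc hD hqc hqs i X₀ f₀ h₁ h₂
    (lfp_le_lft _ _ _ hQ) X q f hf hP.1
  obtain ⟨j₂, φ₂, a₂⟩ := EGA43Lim.descends_surjective D c hc hD hqc hqs i X₀ f₀ h₁ h₂ hQ X q f hf hP.2
  obtain ⟨k, ψ₁, ψ₂, hψ⟩ : ∃ (k : I) (ψ₁ : k ⟶ j₁) (ψ₂ : k ⟶ j₂), ψ₁ ≫ φ₁ = ψ₂ ≫ φ₂ := by
    obtain ⟨k, ψ₁, ψ₂, -⟩ := IsCofilteredOrEmpty.cone_objs j₁ j₂
    obtain ⟨l, e, he⟩ := IsCofilteredOrEmpty.cone_maps (ψ₁ ≫ φ₁) (ψ₂ ≫ φ₂)
    exact ⟨l, e ≫ ψ₁, e ≫ ψ₂, by simpa using he⟩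
  refine ⟨k, ψ₁ ≫ φ₁, ?_, ?_⟩
  · exact LimLib.property_of_factor (P := @IsFinite) (IsPullback.of_hasPullback _ _)
      (IsPullback.of_hasPullback _ _) (D.map ψ₁) (D.map_comp _ _).symm a₁
  · rw [hψ]
    exact LimLib.property_of_factor (P := @Surjective) (IsPullback.of_hasPullback _ _)
      (IsPullback.of_hasPullback _ _) (D.map ψ₂) (D.map_comp _ _).symm a₂

lemma topDim_eq_of_finSurj {X Y : Scheme.{u}} (g : X ⟶ Y) [IsFinite g] [Surjective g] :
    topologicalKrullDim X = topologicalKrullDim Y := by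
  refine le_antisymm (DimLift.topDim_le_of_fibres_antichain g.continuous fun x x' h e => ?_)
    (DimLift.topDim_le_of_specializingMap g.surjective g.isClosedMap.specializingMap)
  have hd : DiscreteTopology ↥(g ⁻¹' {g x}) :=
    isDiscrete_iff_discreteTopology.1 (g.isDiscrete_preimage_singleton (g x))
  let a : ↥(g ⁻¹' {g x}) := ⟨x, rfl⟩
  let b : ↥(g ⁻¹' {g x}) := ⟨x', e.symm⟩
  have : a ⤳ b := IsInducing.subtypeVal.specializes_iff.1 h
  exact congrArg Subtype.val this.eq

lemma topDim_eq_of_iso {X Y : Scheme.{u}} (e : X ≅ Y) :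
    topologicalKrullDim X = topologicalKrullDim Y :=
  IsHomeomorph.topologicalKrullDim_eq _ (Scheme.homeoOfIso e).isHomeomorph

lemma topDim_affineSpace (T : Scheme.{u}) [IsIntegral T] [Subsingleton T] (n : Type u) [Finite n] :
    topologicalKrullDim 𝔸(n; T) = (Nat.card n : WithBot ℕ∞) := by
  letI : Field Γ(T, ⊤) := (isField_of_isIntegral_of_subsingleton T).toField
  rw [topDim_eq_of_iso (AffineSpace.isoOfIsAffine n T)]
  refine (PrimeSpectrum.topologicalKrullDim_eq_ringKrullDim _).trans ?_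
  rw [MvPolynomial.ringKrullDim_of_isNoetherianRing, ringKrullDim_eq_zero_of_field, zero_add]

/-- Noether normalization. -/
lemma exists_finSurj_affineSpace {Y T : Scheme.{u}} (g : Y ⟶ T) [LocallyOfFiniteType g] [IsAffine Y]
    [Nonempty Y] [IsIntegral T] [Subsingleton T] :
    ∃ (n : Type u) (_ : Finite n) (p : Y ⟶ 𝔸(n; T)), p ≫ 𝔸(n; T) ↘ T = g ∧ finSurj p := by
  letI : Field Γ(T, ⊤) := (isField_of_isIntegral_of_subsingleton T).toField
  have hft : g.appTop.hom.FiniteType := HasRingHomProperty.appTop @LocallyOfFiniteType g ‹_›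
  letI := g.appTop.hom.toAlgebra
  haveI : Algebra.FiniteType Γ(T, ⊤) Γ(Y, ⊤) := hft
  haveI : Nontrivial Γ(Y, ⊤) := by
    rw [← not_subsingleton_iff_nontrivial]
    intro hs
    haveI : IsEmpty ↥(Spec Γ(Y, ⊤)) := inferInstanceAs (IsEmpty (PrimeSpectrum Γ(Y, ⊤)))
    exact IsEmpty.false (Y.isoSpec.hom (Classical.arbitrary Y))
  obtain ⟨s, φ, hinj, hfin⟩ := exists_finite_inj_algHom_of_fg Γ(T, ⊤) Γ(Y, ⊤)
  let ψ : MvPolynomial (ULift.{u} (Fin s)) Γ(T, ⊤) →ₐ[Γ(T, ⊤)] Γ(Y, ⊤) :=
    φ.comp (MvPolynomial.renameEquiv Γ(T, ⊤) Equiv.ulift).toAlgHom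
  have hψinj : Function.Injective ψ :=
    hinj.comp (MvPolynomial.renameEquiv Γ(T, ⊤) Equiv.ulift).injective
  have hψfin : ψ.toRingHom.Finite := RingHom.Finite.comp hfin
    (RingHom.Finite.of_surjective _ (MvPolynomial.renameEquiv Γ(T, ⊤) Equiv.ulift).surjective)
  refine ⟨ULift.{u} (Fin s), inferInstance,
    Y.isoSpec.hom ≫ Spec.map (CommRingCat.ofHom ψ.toRingHom) ≫ (AffineSpace.isoOfIsAffine _ T).inv,
    ?_, ?_, ?_⟩
  · have e : CommRingCat.ofHom MvPolynomial.C ≫ CommRingCat.ofHom ψ.toRingHom = g.appTop := by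
      ext r
      exact ψ.commutes r
    rw [Category.assoc, Category.assoc, AffineSpace.isoOfIsAffine_inv_over, ← Spec.map_comp_assoc, e,
      ← Category.assoc, Scheme.isoSpec_hom_naturality, Category.assoc, Iso.hom_inv_id,
      Category.comp_id]
  · haveI : IsFinite (Spec.map (CommRingCat.ofHom ψ.toRingHom)) :=
      (IsFinite.SpecMap_iff _).2 hψfin
    infer_instance
  · haveI : Surjective (Spec.map (CommRingCat.ofHom ψ.toRingHom)) :=
      ⟨hψfin.to_isIntegral.comap_surjective hψinj⟩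
    infer_instance

/-- A witness computes the dimension. -/
lemma topDim_of_witness {X' T' T Y' : Scheme.{u}} [IsIntegral T'] [Subsingleton T'] {n : Type u}
    [Finite n] {h : T' ⟶ T} {gY' : Y' ⟶ T'} {eY : Y' ⟶ 𝔸(n; T)}
    (sY : IsPullback eY gY' (𝔸(n; T) ↘ T) h) {g : X' ⟶ Y'} (hg : finSurj g) :
    topologicalKrullDim X' = (Nat.card n : WithBot ℕ∞) := by
  haveI := hg.1; haveI := hg.2
  rw [topDim_eq_of_finSurj g,
    topDim_eq_of_iso (sY.isoIsPullback _ _ (AffineSpace.isPullback_map h)), topDim_affineSpace]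

/-- Dimension of an affine scheme of finite type over a field is invariant under extensions. -/
lemma topDim_baseChange_affine {Y T T' Y' : Scheme.{u}} (g : Y ⟶ T) [LocallyOfFiniteType g]
    [IsAffine Y] [IsIntegral T] [Subsingleton T] [IsIntegral T'] [Subsingleton T'] {h : T' ⟶ T}
    {e : Y' ⟶ Y} {g' : Y' ⟶ T'} (sq : IsPullback e g' g h) :
    topologicalKrullDim Y' = topologicalKrullDim Y := by
  rcases isEmpty_or_nonempty Y with hY | hY
  · haveI : IsEmpty Y' := Function.isEmpty e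
    have hb : ∀ Z : Scheme.{u}, IsEmpty Z → topologicalKrullDim Z = ⊥ := fun Z hZ => by
      haveI : IsEmpty (TopologicalSpace.IrreducibleCloseds Z) :=
        ⟨fun C => IsEmpty.false C.isIrreducible.1.some⟩
      exact Order.krullDim_eq_bot
    rw [hb _ ‹_›, hb _ hY]
  obtain ⟨n, _, p, hp, hQ⟩ := exists_finSurj_affineSpace g
  haveI := hQ.1; haveI := hQ.2
  rw [topDim_eq_of_finSurj p, topDim_affineSpace]
  have h₂ := AffineSpace.isPullback_map (n := n) h
  have sq' : IsPullback e (h₂.lift (e ≫ p) g' (by rw [Category.assoc, hp, sq.w])) p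
      (AffineSpace.map n h) := by
    refine IsPullback.of_bot ?_ (h₂.lift_fst _ _ _).symm h₂
    rw [h₂.lift_snd, hp]
    exact sq
  exact topDim_of_witness (h := h) (AffineSpace.isPullback_map h) (finSurj.of_isPullback sq' hQ)

/-- The dimension of a base change computed on an open cover. -/
lemma topDim_eq_iSup_pieces {X X' S T : Scheme.{u}} {u : X ⟶ S} {h : T ⟶ S} {e : X' ⟶ X}
    {g' : X' ⟶ T} (sq : IsPullback e g' u h) {ι : Type u} {U : ι → X.Opens}
    (hU : TopologicalSpace.IsOpenCover U) :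
    topologicalKrullDim X' = ⨆ i, topologicalKrullDim ↥(pullback ((U i).ι ≫ u) h) := by
  let j : ∀ i, pullback ((U i).ι ≫ u) h ⟶ X' := fun i =>
    sq.lift (pullback.fst _ _ ≫ (U i).ι) (pullback.snd _ _)
      (by rw [Category.assoc]; exact pullback.condition)
  have hj : ∀ i, IsPullback (j i) (pullback.fst _ _) e (U i).ι := fun i => by
    refine IsPullback.of_right ?_ (sq.lift_fst _ _ _) sq.flip
    rw [sq.lift_snd]
    exact (IsPullback.of_hasPullback _ _).flip
  haveI : ∀ i, IsOpenImmersion (j i) := fun i =>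
    MorphismProperty.of_isPullback (hj i).flip (inferInstanceAs (IsOpenImmersion (U i).ι))
  have hr : ∀ i, Set.range (j i) = ↑(e ⁻¹ᵁ U i) := fun i => by
    rw [← (hj i).isoPullback_hom_fst, Scheme.Hom.comp_base, TopCat.coe_comp, Set.range_comp,
      Set.range_eq_univ.mpr (hj i).isoPullback.hom.surjective, Set.image_univ,
      Scheme.Pullback.range_fst, Scheme.Opens.range_ι, Scheme.Hom.coe_preimage]
  refine le_antisymm (TopDimLib.topDim_le_iff.2 fun l => ?_) (iSup_le fun i => ?_)
  · obtain ⟨x, hx⟩ := l.head.isIrreducible.1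
    obtain ⟨i, hi⟩ := hU.exists_mem (e x)
    refine le_iSup_of_le i (le_of_le_of_eq (TopDimLib.length_le_of_open l (e ⁻¹ᵁ U i).2 hx hi) ?_)
    let h₁ := ((j i).isOpenEmbedding.isEmbedding.toHomeomorph).trans (Homeomorph.setCongr (hr i))
    exact (IsHomeomorph.topologicalKrullDim_eq _ h₁.isHomeomorph).symm
  · let h₁ := ((j i).isOpenEmbedding.isEmbedding.toHomeomorph).trans (Homeomorph.setCongr (hr i))
    rw [IsHomeomorph.topologicalKrullDim_eq _ h₁.isHomeomorph]
    exact topologicalKrullDim_subspace_le X' _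

theorem isFieldStable_topDim (Φ : Set (WithBot ℕ∞)) :
    ConsProp.IsFieldStable (fun (Y T : Scheme.{u}) (_ : Y ⟶ T) => topologicalKrullDim Y ∈ Φ) := by
  intro Y Y' T T' g g' e h _ _ _ _ _ _ sq
  suffices topologicalKrullDim Y' = topologicalKrullDim Y by
    show topologicalKrullDim Y ∈ Φ ↔ topologicalKrullDim Y' ∈ Φ
    rw [this]
  have hcov : TopologicalSpace.IsOpenCover (fun V : Y.affineOpens => (V : Y.Opens)) :=
    iSup_affineOpens_eq_top Y
  rw [topDim_eq_iSup_pieces sq hcov, topDim_eq_iSup_pieces (IsPullback.id_horiz g) hcov]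
  refine iSup_congr fun V => ?_
  haveI : IsAffine ((V : Y.Opens) : Scheme.{u}) := V.2
  rw [topDim_baseChange_affine ((V : Y.Opens).ι ≫ g) (IsPullback.of_hasPullback _ h)]
  exact topDim_eq_of_iso (asIso (pullback.fst ((V : Y.Opens).ι ≫ g) (𝟙 T))).symm

/-- Field invariance, as an equality. -/
lemma topDim_baseChange {Y Y' T T' : Scheme.{u}} (g : Y ⟶ T) [LocallyOfFiniteType g] [QuasiCompact g]
    [IsIntegral T] [Subsingleton T] [IsIntegral T'] [Subsingleton T'] {h : T' ⟶ T}
    {e : Y' ⟶ Y} {g' : Y' ⟶ T'} (sq : IsPullback e g' g h) :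
    topologicalKrullDim Y' = topologicalKrullDim Y :=
  ((isFieldStable_topDim {d | d = topologicalKrullDim Y}) g g' e h sq).1 rfl

/-- The dimension of the generic fibre is attained on a neighbourhood, affine case. -/
lemma exists_open_topDim_affine {X S : Scheme.{u}} (u : X ⟶ S) [IsIntegral S] [IsNoetherian S]
    [IsAffine S] [IsAffine X] [LocallyOfFiniteType u] :
    ∃ U : S.Opens, genericPoint S ∈ U ∧ ∀ s ∈ U,
      topologicalKrullDim (u.fiber s) = topologicalKrullDim (u.fiber (genericPoint S)) := by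
  haveI : IsLocallyNoetherian X := LocallyOfFiniteType.isLocallyNoetherian u
  haveI : LocallyOfFinitePresentation u := LocallyOfFinitePresentation.iff_locallyOfFiniteType.2 ‹_›
  by_cases hη : genericPoint S ∈ Set.range u
  · obtain ⟨x, hx⟩ := hη
    haveI : Nonempty (u.fiber (genericPoint S)) := by
      have : x ∈ Set.range (u.fiberι (genericPoint S)) := by
        rw [Scheme.Hom.range_fiberι]; exact hx
      exact ⟨this.choose⟩
    haveI : IsAffineHom (S.fromSpecResidueField (genericPoint S)) := inferInstance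
    haveI : IsAffine (u.fiber (genericPoint S)) :=
      isAffine_of_isAffineHom (u.fiberι (genericPoint S))
    obtain ⟨n, _, p, hp, hQ⟩ := exists_finSurj_affineSpace (u.fiberToSpecResidueField (genericPoint S))
    let v : 𝔸(n; S) ⟶ S := 𝔸(n; S) ↘ S
    haveI : LocallyOfFiniteType v := inferInstance
    haveI : QuasiCompact v := inferInstance
    have hA := AffineSpace.isPullback_map (n := n) (S.fromSpecResidueField (genericPoint S))
    have hw : genericPoint S ∈ ConsPropPair.locusPair (WitPred finSurj) u v :=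
      ⟨Spec (S.residueField (genericPoint S)), u.fiber (genericPoint S),
        𝔸(n; Spec (S.residueField (genericPoint S))), 𝟙 _, _, _, 𝟙 _,
        hA.isoPullback.hom, inferInstance, inferInstance, IsPullback.of_horiz_isIso (by simp),
        IsPullback.of_horiz_isIso ⟨by simp [Scheme.Hom.fiberToSpecResidueField, v]⟩, p, hp, hQ⟩
    obtain ⟨U, hUmem⟩ := (isIndConsPair_witPred descends_finSurj).2 u v hw
    let W : S.Opens := ⟨interior (ConsPropPair.locusPair (WitPred finSurj) u v), isOpen_interior⟩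
    have hW : genericPoint S ∈ W := (genericPoint_spec S).mem_open_set_iff isOpen_interior |>.2
      ⟨U, trivial, hUmem⟩
    refine ⟨W, hW, fun s hs => ?_⟩
    have key : ∀ t ∈ ConsPropPair.locusPair (WitPred finSurj) u v,
        topologicalKrullDim (u.fiber t) = (Nat.card n : WithBot ℕ∞) := by
      rintro t ⟨T', X', Y', h, gX', gY', eX, eY, _, _, sX, sY, g, -, hg⟩
      haveI := ConsPropLib.locallyOfFiniteType_fiberTo u t
      haveI := ConsPropLib.quasiCompact_fiberTo u t
      rw [← topDim_baseChange (u.fiberToSpecResidueField t) sX]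
      exact topDim_of_witness (sY.paste_horiz (IsPullback.of_hasPullback v _)) hg
    rw [key s (interior_subset (s := ConsPropPair.locusPair (WitPred finSurj) u v) hs), key _ hw]
  · have hc : IsConstructible (Set.range u)ᶜ := by
      rw [← Set.image_univ]
      exact (u.isConstructible_image IsConstructible.univ).compl
    obtain ⟨U, hU, hmem, hsub⟩ := ConsPropLib.exists_open_subset_of_generic hc hη
    refine ⟨⟨U, hU⟩, hmem, fun s hs => ?_⟩
    have he : ∀ t, t ∉ Set.range u → topologicalKrullDim (u.fiber t) = ⊥ := fun t ht => by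
      haveI : IsEmpty (u.fiber t) := ⟨fun z => ht ⟨u.fiberι t z, by
        have := Set.mem_range_self (f := u.fiberι t) z
        rwa [Scheme.Hom.range_fiberι] at this⟩⟩
      haveI : IsEmpty (TopologicalSpace.IrreducibleCloseds (u.fiber t)) :=
        ⟨fun C => IsEmpty.false C.isIrreducible.1.some⟩
      exact Order.krullDim_eq_bot
    rw [he s (hsub hs), he _ hη]

theorem isCons_topDim (Φ : Set (WithBot ℕ∞)) :
    ConsProp.IsCons (fun (Y T : Scheme.{u}) (_ : Y ⟶ T) => topologicalKrullDim Y ∈ Φ) := by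
  refine ⟨isFieldStable_topDim Φ, fun X S u _ _ _ _ => ?_⟩
  obtain ⟨V, hV, hηV, -⟩ := exists_isAffineOpen_mem_and_subset (x := genericPoint S) (U := ⊤) trivial
  haveI : IsAffine (V : Scheme.{u}) := hV
  haveI : Nonempty (V : Scheme.{u}) := ⟨⟨_, hηV⟩⟩
  haveI : IsIntegral (V : Scheme.{u}) := isIntegral_of_isOpenImmersion V.ι
  haveI : IsNoetherian (V : Scheme.{u}) :=
    haveI := isLocallyNoetherian_of_isOpenImmersion V.ι; ⟨⟩
  let u' : ((u ⁻¹ᵁ V : X.Opens) : Scheme.{u}) ⟶ (V : Scheme.{u}) := u ∣_ V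
  haveI : LocallyOfFiniteType u' :=
    MorphismProperty.of_isPullback (isPullback_morphismRestrict u V).flip ‹_›
  haveI : QuasiCompact u' :=
    MorphismProperty.of_isPullback (isPullback_morphismRestrict u V).flip ‹_›
  haveI := QuasiCompact.compactSpace_of_compactSpace u'
  let 𝒰 := (((u ⁻¹ᵁ V : X.Opens) : Scheme.{u}).affineCover.finiteSubcover)
  haveI : ∀ a, IsAffine (𝒰.X a) := fun a => inferInstanceAs (IsAffine (Spec _))
  let W : 𝒰.I₀ → ((u ⁻¹ᵁ V : X.Opens) : Scheme.{u}).Opens := fun a => (𝒰.f a).opensRange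
  have hW : TopologicalSpace.IsOpenCover W := 𝒰.iSup_opensRange
  have hWa : ∀ a, IsAffineOpen (W a) := fun a => isAffineOpen_opensRange _
  have hex : ∀ a, ∃ U : (V : Scheme.{u}).Opens, genericPoint (V : Scheme.{u}) ∈ U ∧ ∀ s ∈ U,
      topologicalKrullDim (((W a).ι ≫ u').fiber s) =
        topologicalKrullDim (((W a).ι ≫ u').fiber (genericPoint (V : Scheme.{u}))) := fun a => by
    haveI : IsAffine ((W a : ((u ⁻¹ᵁ V : X.Opens) : Scheme.{u}).Opens) : Scheme.{u}) := hWa a
    exact exists_open_topDim_affine _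
  choose U hU hUd using hex
  have hdim : ∀ s ∈ ⋂ a, (U a : Set (V : Scheme.{u})),
      topologicalKrullDim (u'.fiber s) = topologicalKrullDim (u'.fiber (genericPoint (V : Scheme.{u}))) := by
    intro s hs
    have h₁ : ∀ t, topologicalKrullDim (u'.fiber t) =
        ⨆ a, topologicalKrullDim (((W a).ι ≫ u').fiber t) :=
      fun t => topDim_eq_iSup_pieces (IsPullback.of_hasPullback u' _) hW
    rw [h₁, h₁]
    exact iSup_congr fun a => hUd a s (Set.mem_iInter.1 hs a)
  have hopen : IsOpen (⋂ a, (U a : Set (V : Scheme.{u}))) := isOpen_iInter_of_finite fun a => (U a).2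
  have himg : IsOpen (V.ι '' ⋂ a, (U a : Set (V : Scheme.{u}))) := V.ι.isOpenEmbedding.isOpenMap _ hopen
  have hpre := ConsPropLib.locus_preimage (isFieldStable_topDim Φ)
    (isPullback_morphismRestrict u V).flip
  have hne : (V.ι '' ⋂ a, (U a : Set (V : Scheme.{u}))).Nonempty :=
    ⟨_, _, Set.mem_iInter.2 hU, rfl⟩
  by_cases hP : topologicalKrullDim (u'.fiber (genericPoint (V : Scheme.{u}))) ∈ Φ
  · refine Or.inl (hne.mono (interior_maximal ?_ himg))
    rintro _ ⟨s, hs, rfl⟩
    have : s ∈ ConsProp.locus (fun (Y T : Scheme.{u}) (_ : Y ⟶ T) => topologicalKrullDim Y ∈ Φ) u' := by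
      show topologicalKrullDim (u'.fiber s) ∈ Φ
      rw [hdim s hs]; exact hP
    rw [hpre] at this
    exact this
  · refine Or.inr (hne.mono (interior_maximal ?_ himg))
    rintro _ ⟨s, hs, rfl⟩ hmem
    have : s ∈ ConsProp.locus (fun (Y T : Scheme.{u}) (_ : Y ⟶ T) => topologicalKrullDim Y ∈ Φ) u' := by
      rw [hpre]; exact hmem
    have h' : topologicalKrullDim (u'.fiber s) ∈ Φ := this
    rw [hdim s hs] at h'
    exact hP h'

end Groth.Agent.ConsPairLib
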