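import Groth.Prelude.Def_W4ega4s0809p4Pair
import Groth.Agent.EGA43Lim.Basic
import Groth.Agent.ConsPropLib.Fibres
import Groth.Agent.ConsPropLib.Noeth
import Mathlib.AlgebraicGeometry.Artinian
import Mathlib.AlgebraicGeometry.Fiber
import Mathlib.RingTheory.Adjoin.FG
import Mathlib.CategoryTheory.Limits.Opposites
import Mathlib.CategoryTheory.Filtered.Basic

/-!
Existence, after some extension of the base field, of a morphism with a given property between two
algebraic schemes: an ind-constructible property of pairs.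
-/

set_option backward.isDefEq.respectTransparency false
set_option backward.defeqAttrib.useBackward true

universe u

open CategoryTheory CategoryTheory.Limits AlgebraicGeometry Topology Opposite

namespace Groth.Agent.ConsPairLib

/-- After some field extension, a `Q`-morphism over the base exists. -/
def WitPred (Q : MorphismProperty Scheme.{u}) :
    ∀ ⦃X Y T : Scheme.{u}⦄, (X ⟶ T) → (Y ⟶ T) → Prop :=
  fun X Y T gX gY => ∃ (T' X' Y' : Scheme.{u}) (h : T' ⟶ T) (gX' : X' ⟶ T') (gY' : Y' ⟶ T')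
    (eX : X' ⟶ X) (eY : Y' ⟶ Y), IsIntegral T' ∧ Subsingleton ↥T' ∧
      IsPullback eX gX' gX h ∧ IsPullback eY gY' gY h ∧
        ∃ g : X' ⟶ Y', g ≫ gY' = gX' ∧ Q g

variable {Q : MorphismProperty Scheme.{u}} [Q.IsStableUnderBaseChange]

/-- Witnesses can be pulled back along a morphism of bases. -/
lemma exists_baseChange {X Y T T₁ T₂ X₁ Y₁ : Scheme.{u}} {gX : X ⟶ T} {gY : Y ⟶ T} {h₁ : T₁ ⟶ T}
    {gX₁ : X₁ ⟶ T₁} {gY₁ : Y₁ ⟶ T₁} {eX : X₁ ⟶ X} {eY : Y₁ ⟶ Y}
    (sX : IsPullback eX gX₁ gX h₁) (sY : IsPullback eY gY₁ gY h₁) {g : X₁ ⟶ Y₁}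
    (hg : g ≫ gY₁ = gX₁) (hQ : Q g) (j : T₂ ⟶ T₁) :
    ∃ (X₂ Y₂ : Scheme.{u}) (gX₂ : X₂ ⟶ T₂) (gY₂ : Y₂ ⟶ T₂) (eX₂ : X₂ ⟶ X) (eY₂ : Y₂ ⟶ Y),
      IsPullback eX₂ gX₂ gX (j ≫ h₁) ∧ IsPullback eY₂ gY₂ gY (j ≫ h₁) ∧
        ∃ g₂ : X₂ ⟶ Y₂, g₂ ≫ gY₂ = gX₂ ∧ Q g₂ := by
  refine ⟨pullback gX₁ j, pullback gY₁ j, pullback.snd _ _, pullback.snd _ _,
    pullback.fst _ _ ≫ eX, pullback.fst _ _ ≫ eY,
    (IsPullback.of_hasPullback gX₁ j).paste_horiz sX, (IsPullback.of_hasPullback gY₁ j).paste_horiz sY,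
    pullback.lift (pullback.fst _ _ ≫ g) (pullback.snd _ _)
      (by rw [Category.assoc, hg, pullback.condition]), pullback.lift_snd _ _ _, ?_⟩
  refine Q.of_isPullback (f' := pullback.fst gX₁ j) (f := pullback.fst gY₁ j) (g := g) ?_ hQ
  exact IsPullback.of_bot (by simpa [hg] using IsPullback.of_hasPullback gX₁ j) (by simp)
    (IsPullback.of_hasPullback gY₁ j)

/-- A witness over a one point scheme lying over the point of `T'`. -/
lemma witPred_of_factor {X Y T T' X' Y' T₁ X₁ Y₁ : Scheme.{u}} {gX : X ⟶ T} {gY : Y ⟶ T}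
    {gX' : X' ⟶ T'} {gY' : Y' ⟶ T'} {eX : X' ⟶ X} {eY : Y' ⟶ Y} {h : T' ⟶ T}
    (sX : IsPullback eX gX' gX h) (sY : IsPullback eY gY' gY h)
    [IsIntegral T₁] [Subsingleton T₁] {p : T₁ ⟶ T'} {q : T₁ ⟶ T} (hpq : p ≫ h = q)
    {gX₁ : X₁ ⟶ T₁} {gY₁ : Y₁ ⟶ T₁} {fX : X₁ ⟶ X} {fY : Y₁ ⟶ Y}
    (tX : IsPullback fX gX₁ gX q) (tY : IsPullback fY gY₁ gY q)
    {g : X₁ ⟶ Y₁} (hg : g ≫ gY₁ = gX₁) (hQ : Q g) : WitPred Q gX' gY' := by
  subst hpq
  refine ⟨T₁, X₁, Y₁, p, gX₁, gY₁, sX.lift fX (gX₁ ≫ p) (by rw [Category.assoc]; exact tX.w),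
    sY.lift fY (gY₁ ≫ p) (by rw [Category.assoc]; exact tY.w), ‹_›, ‹_›, ?_, ?_, g, hg, hQ⟩
  · exact IsPullback.of_right (by simpa using tX) (by simp) sX
  · exact IsPullback.of_right (by simpa using tY) (by simp) sY

theorem isFieldStablePair_witPred : ConsPropPair.IsFieldStablePair (WitPred Q) := by
  intro X X' Y Y' T T' gX gY gX' gY' eX eY h _ _ _ _ _ _ _ _ sX sY
  constructor
  · rintro ⟨T₁, X₁, Y₁, h₁, gX₁, gY₁, fX, fY, _, _, tX, tY, g, hg, hQ⟩
    obtain ⟨z, hz₁, hz₂⟩ := Scheme.Pullback.exists_preimage_pullback (f := h₁) (g := h)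
      (Classical.arbitrary T₁) (Classical.arbitrary T') (Subsingleton.elim _ _)
    obtain ⟨X₂, Y₂, gX₂, gY₂, fX₂, fY₂, uX, uY, g₂, hg₂, hQ₂⟩ := exists_baseChange tX tY hg hQ
      ((pullback h₁ h).fromSpecResidueField z ≫ pullback.fst h₁ h)
    refine witPred_of_factor sX sY (T₁ := Spec ((pullback h₁ h).residueField z))
      (p := (pullback h₁ h).fromSpecResidueField z ≫ pullback.snd h₁ h) ?_ uX uY hg₂ hQ₂
    rw [Category.assoc, Category.assoc, pullback.condition]
  · rintro ⟨T₁, X₁, Y₁, h₁, gX₁, gY₁, fX, fY, i₁, i₂, tX, tY, g, hg, hQ⟩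
    exact ⟨T₁, X₁, Y₁, h₁ ≫ h, gX₁, gY₁, fX ≫ eX, fY ≫ eY, i₁, i₂, tX.paste_horiz sX,
      tY.paste_horiz sY, g, hg, hQ⟩

/-- A witness over a morphism `T' ⟶ S` gives one at the image of every point. -/
lemma mem_locusPair_of_witness {X Y S T' X' Y' : Scheme.{u}} {u : X ⟶ S} {v : Y ⟶ S} {h : T' ⟶ S}
    {gX' : X' ⟶ T'} {gY' : Y' ⟶ T'} {eX : X' ⟶ X} {eY : Y' ⟶ Y}
    (sX : IsPullback eX gX' u h) (sY : IsPullback eY gY' v h) {g : X' ⟶ Y'}
    (hg : g ≫ gY' = gX') (hQ : Q g) (b : T') :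
    h b ∈ ConsPropPair.locusPair (WitPred Q) u v := by
  obtain ⟨X₂, Y₂, gX₂, gY₂, fX₂, fY₂, uX, uY, g₂, hg₂, hQ₂⟩ :=
    exists_baseChange sX sY hg hQ (T'.fromSpecResidueField b)
  exact witPred_of_factor (X' := u.fiber (h b)) (Y' := v.fiber (h b))
    (IsPullback.of_hasPullback u (S.fromSpecResidueField (h b)))
    (IsPullback.of_hasPullback v (S.fromSpecResidueField (h b)))
    (p := Spec.map (h.residueFieldMap b)) (h.SpecMap_residueFieldMap_fromSpecResidueField b)
    uX uY hg₂ hQ₂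

section Algebra

variable (A K : Type u) [CommRing A] [CommRing K] [Algebra A K]

open Classical in
/-- The finitely generated subalgebras, indexed by finite sets of generators. -/
noncomputable def adjoinDiag : Finset K ⥤ CommRingCat.{u} where
  obj s := CommRingCat.of (Algebra.adjoin A (s : Set K))
  map {s t} f := CommRingCat.ofHom
    (Subalgebra.inclusion (Algebra.adjoin_mono (Finset.coe_subset.2 (leOfHom f)))).toRingHom
  map_id s := by ext; rfl
  map_comp f g := by ext; rfl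

noncomputable def adjoinCocone : Cocone (adjoinDiag A K) where
  pt := CommRingCat.of K
  ι :=
  { app := fun s => CommRingCat.ofHom (Algebra.adjoin A (s : Set K)).val.toRingHom
    naturality := fun s t f => by ext; rfl }

open Classical in
noncomputable def isColimitAdjoinCocone : IsColimit (adjoinCocone A K) := by
  have hmem : ∀ x : K, x ∈ Algebra.adjoin A (({x} : Finset K) : Set K) := fun x =>
    Algebra.subset_adjoin (by simp)
  let φ : ∀ (c : Cocone (adjoinDiag A K)), K → c.pt := fun c x =>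
    c.ι.app ({x} : Finset K) ⟨x, hmem x⟩
  have key : ∀ (c : Cocone (adjoinDiag A K)) (s : Finset K) (x : K)
      (hx : x ∈ Algebra.adjoin A (s : Set K)), c.ι.app s ⟨x, hx⟩ = φ c x := by
    intro c s x hx
    have h₁ := c.w (homOfLE (show s ≤ s ∪ {x} from Finset.subset_union_left))
    have h₂ := c.w (homOfLE (show ({x} : Finset K) ≤ s ∪ {x} from Finset.subset_union_right))
    dsimp only [φ]
    rw [← h₁, ← h₂]
    rfl
  refine
    { desc := fun c => CommRingCat.ofHom
        { toFun := φ c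
          map_one' := ?_
          map_mul' := fun x y => ?_
          map_zero' := ?_
          map_add' := fun x y => ?_ }
      fac := fun c s => by
        ext x
        exact (key c s x.1 x.2).symm
      uniq := fun c m hm => by
        ext x
        exact congr($(hm ({x} : Finset K)) ⟨x, hmem x⟩) }
  · rw [← key c ∅ 1 (one_mem _)]; exact map_one (c.ι.app ∅).hom
  · have hx : x ∈ Algebra.adjoin A (({x, y} : Finset K) : Set K) := Algebra.subset_adjoin (by simp)
    have hy : y ∈ Algebra.adjoin A (({x, y} : Finset K) : Set K) := Algebra.subset_adjoin (by simp)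
    rw [← key c _ x hx, ← key c _ y hy, ← key c _ (x * y) (mul_mem hx hy)]
    exact map_mul (c.ι.app _).hom ⟨x, hx⟩ ⟨y, hy⟩
  · rw [← key c ∅ 0 (zero_mem _)]; exact map_zero (c.ι.app ∅).hom
  · have hx : x ∈ Algebra.adjoin A (({x, y} : Finset K) : Set K) := Algebra.subset_adjoin (by simp)
    have hy : y ∈ Algebra.adjoin A (({x, y} : Finset K) : Set K) := Algebra.subset_adjoin (by simp)
    rw [← key c _ x hx, ← key c _ y hy, ← key c _ (x + y) (add_mem hx hy)]
    exact map_add (c.ι.app _).hom ⟨x, hx⟩ ⟨y, hy⟩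

end Algebra

/-- An affine scheme over an affine Noetherian scheme is a limit of affine schemes of finite type. -/
lemma exists_limit_presentation (A : CommRingCat.{u}) [IsNoetherianRing A] (K : CommRingCat.{u})
    (φ : A ⟶ K) :
    ∃ (I : Type u) (_ : SmallCategory I) (_ : IsCofiltered I) (D : I ⥤ Scheme.{u}) (c : Cone D)
      (t : D ⟶ (Functor.const I).obj (Spec A)) (e : Spec K ≅ c.pt),
      Nonempty (IsLimit c) ∧ (∀ i, IsAffine (D.obj i)) ∧ (∀ i, LocallyOfFiniteType (t.app i)) ∧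
        ∀ i, e.hom ≫ c.π.app i ≫ t.app i = Spec.map φ := by
  letI := φ.hom.toAlgebra
  classical
  refine ⟨(Finset K)ᵒᵖ, inferInstance, inferInstance, (adjoinDiag A K).op ⋙ Scheme.Spec,
    Scheme.Spec.mapCone (adjoinCocone A K).op,
    { app := fun i => Spec.map (CommRingCat.ofHom (algebraMap A (Algebra.adjoin A (i.unop : Set K))))
      naturality := fun i j f => by
        simp only [Functor.const_obj_map, Category.comp_id, Functor.comp_map, Functor.op_map,
          Scheme.Spec_map]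
        rw [← Spec.map_comp]
        rfl },
    Iso.refl _, ⟨isLimitOfPreserves Scheme.Spec (isColimitAdjoinCocone A K).op⟩,
    fun i => ?_, fun i => ?_, fun i => ?_⟩
  · exact inferInstanceAs (IsAffine (Spec _))
  · rw [HasRingHomProperty.Spec_iff (P := @LocallyOfFiniteType)]
    have := (Subalgebra.fg_iff_finiteType _).1 (Subalgebra.fg_adjoin_finset (R := A) i.unop)
    exact RingHom.finiteType_algebraMap.2 this
  · simp only [Iso.refl_hom, Category.id_comp, Functor.mapCone_π_app, Scheme.Spec_map]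
    erw [← Spec.map_comp]
    rfl

section Main

variable (h : LimLib.Descends.{u} Q @LocallyOfFinitePresentation)

omit [Q.IsStableUnderBaseChange] in
/-- A morphism over the limit between schemes coming from a stage comes from a stage. -/
lemma exists_stage_hom {I : Type u} [SmallCategory I] [IsCofiltered I]
    (D : I ⥤ Scheme.{u}) (c : Cone D) (hc : IsLimit c)
    [∀ (i j : I) (f : i ⟶ j), IsAffineHom (D.map f)]
    [∀ i, CompactSpace (D.obj i)] [∀ i, QuasiSeparatedSpace (D.obj i)] (i₀ : I)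
    {X₀ Y₀ X Y : Scheme.{u}} (u₀ : X₀ ⟶ D.obj i₀) (v₀ : Y₀ ⟶ D.obj i₀)
    [QuasiCompact u₀] [QuasiSeparated u₀] [LocallyOfFinitePresentation v₀]
    {qX : X ⟶ X₀} {gX : X ⟶ c.pt} {qY : Y ⟶ Y₀} {gY : Y ⟶ c.pt}
    (sX : IsPullback qX gX u₀ (c.π.app i₀)) (sY : IsPullback qY gY v₀ (c.π.app i₀))
    (g : X ⟶ Y) (hg : g ≫ gY = gX) :
    ∃ (j : Over i₀) (gj : pullback u₀ (D.map j.hom) ⟶ pullback v₀ (D.map j.hom))
      (qXj : X ⟶ pullback u₀ (D.map j.hom)) (qYj : Y ⟶ pullback v₀ (D.map j.hom)),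
      gj ≫ pullback.snd v₀ (D.map j.hom) = pullback.snd u₀ (D.map j.hom) ∧
        IsPullback qYj gY (pullback.snd v₀ (D.map j.hom)) (c.π.app j.left) ∧
          IsPullback qXj g gj qYj := by
  haveI : CompactSpace X₀ := QuasiCompact.compactSpace_of_compactSpace u₀
  haveI : QuasiSeparatedSpace X₀ := quasiSeparatedSpace_of_quasiSeparated u₀
  let t : LimLib.bcDiag D i₀ u₀ ⟶ (Functor.const (Over i₀)).obj (D.obj i₀) :=
    { app := fun j => pullback.fst u₀ (D.map j.hom) ≫ u₀
      naturality := fun j k a => by simp }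
  obtain ⟨j, s, hs₁, hs₂⟩ := Scheme.exists_π_app_comp_eq_of_locallyOfFinitePresentation
    (LimLib.bcDiag D i₀ u₀) t v₀ _ (LimLib.isLimitBcCone hc sX) (g ≫ qY) (by
      ext k
      simp only [NatTrans.comp_app, LimLib.bcCone_π_app, Functor.const_map_app, Category.assoc, t]
      rw [pullback.lift_fst_assoc, sX.w, sY.w, reassoc_of% hg])
  change s ≫ v₀ = pullback.fst u₀ (D.map j.hom) ≫ u₀ at hs₂
  let vj : pullback v₀ (D.map j.hom) ⟶ D.obj j.left := pullback.snd _ _
  let uj : pullback u₀ (D.map j.hom) ⟶ D.obj j.left := pullback.snd _ _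
  let gj : pullback u₀ (D.map j.hom) ⟶ pullback v₀ (D.map j.hom) :=
    pullback.lift s uj (by rw [hs₂, pullback.condition])
  have hgj : gj ≫ vj = uj := pullback.lift_snd _ _ _
  have hgj' : gj ≫ pullback.fst _ _ = s := pullback.lift_fst _ _ _
  let qXj : X ⟶ pullback u₀ (D.map j.hom) := (LimLib.bcCone sX).π.app j
  let qYj : Y ⟶ pullback v₀ (D.map j.hom) := (LimLib.bcCone sY).π.app j
  have hXj : IsPullback qXj gX uj (c.π.app j.left) := LimLib.isPullback_bcCone sX j
  have hYj : IsPullback qYj gY vj (c.π.app j.left) := LimLib.isPullback_bcCone sY j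
  have hcomm : qXj ≫ gj = g ≫ qYj := by
    apply pullback.hom_ext
    · rw [Category.assoc, Category.assoc, hgj', hs₁]
      simp [qYj]
    · rw [Category.assoc, Category.assoc, show gj ≫ pullback.snd v₀ (D.map j.hom) = uj from hgj,
        hXj.w, show qYj ≫ pullback.snd v₀ (D.map j.hom) = gY ≫ c.π.app j.left from hYj.w,
        reassoc_of% hg]
  have hgjsq : IsPullback qXj g gj qYj :=
    IsPullback.of_bot (by rw [hg, hgj]; exact hXj) hcomm hYj
  exact ⟨j, gj, qXj, qYj, hgj, hYj, hgjsq⟩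

omit [Q.IsStableUnderBaseChange] in
include h in
/-- A morphism with `Q` over the limit comes from one over a stage. -/
lemma exists_stage_witness [Q.RespectsIso] {I : Type u} [SmallCategory I] [IsCofiltered I]
    (D : I ⥤ Scheme.{u}) (c : Cone D) (hc : IsLimit c)
    [∀ (i j : I) (f : i ⟶ j), IsAffineHom (D.map f)]
    [∀ i, CompactSpace (D.obj i)] [∀ i, QuasiSeparatedSpace (D.obj i)] (i₀ : I)
    {X₀ Y₀ X Y : Scheme.{u}} (u₀ : X₀ ⟶ D.obj i₀) (v₀ : Y₀ ⟶ D.obj i₀)
    [LocallyOfFinitePresentation u₀] [QuasiCompact u₀] [QuasiSeparated u₀]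
    [LocallyOfFinitePresentation v₀] [QuasiCompact v₀] [QuasiSeparated v₀]
    {qX : X ⟶ X₀} {gX : X ⟶ c.pt} {qY : Y ⟶ Y₀} {gY : Y ⟶ c.pt}
    (sX : IsPullback qX gX u₀ (c.π.app i₀)) (sY : IsPullback qY gY v₀ (c.π.app i₀))
    (g : X ⟶ Y) (hg : g ≫ gY = gX) (hQ : Q g) :
    ∃ (i : I) (φ : i ⟶ i₀) (Xi Yi : Scheme.{u}) (gXi : Xi ⟶ D.obj i) (gYi : Yi ⟶ D.obj i)
      (pX : Xi ⟶ X₀) (pY : Yi ⟶ Y₀), IsPullback pX gXi u₀ (D.map φ) ∧
        IsPullback pY gYi v₀ (D.map φ) ∧ ∃ gi : Xi ⟶ Yi, gi ≫ gYi = gXi ∧ Q gi := by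
  obtain ⟨j, gj, qXj, qYj, hgj, hYj, hgjsq⟩ := exists_stage_hom D c hc i₀ u₀ v₀ sX sY g hg
  let vj : pullback v₀ (D.map j.hom) ⟶ D.obj j.left := pullback.snd _ _
  let uj : pullback u₀ (D.map j.hom) ⟶ D.obj j.left := pullback.snd _ _
  haveI : LocallyOfFinitePresentation vj := inferInstanceAs (LocallyOfFinitePresentation (pullback.snd _ _))
  haveI : LocallyOfFinitePresentation uj := inferInstanceAs (LocallyOfFinitePresentation (pullback.snd _ _))
  haveI : LocallyOfFinitePresentation (gj ≫ vj) := hgj.symm ▸ inferInstance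
  haveI : QuasiCompact (gj ≫ vj) := hgj.symm ▸ (inferInstanceAs (QuasiCompact (pullback.snd _ _)))
  haveI : QuasiSeparated (gj ≫ vj) :=
    hgj.symm ▸ (inferInstanceAs (QuasiSeparated (pullback.snd _ _)))
  obtain ⟨i, φ, Xi, Yi, fi, gi, pY, pX, hYi, hXi, hfi⟩ := EGA43Lim.exists_stage_fp hc hYj hgjsq h
    (fun _ ha => ha) hQ
  refine ⟨i, φ ≫ j.hom, Xi, Yi, fi ≫ gi, gi, pX ≫ pullback.fst _ _, pY ≫ pullback.fst _ _,
    ?_, ?_, fi, rfl, hfi⟩
  · rw [D.map_comp]
    have h₁ := hXi.paste_vert hYi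
    rw [hgj] at h₁
    exact h₁.paste_horiz (IsPullback.of_hasPullback _ _)
  · rw [D.map_comp]
    exact hYi.paste_horiz (IsPullback.of_hasPullback _ _)

include h in
theorem isIndConsPair_witPred : ConsPropPair.IsIndConsPair (WitPred Q) := by
  refine ⟨isFieldStablePair_witPred, fun X Y S u v _ _ _ _ _ _ hη => ?_⟩
  obtain ⟨T₁, X₁, Y₁, h₁, gX₁, gY₁, eX, eY, _, _, sX, sY, g, hg, hQ⟩ := hη
  set p : T₁ ⟶ S := h₁ ≫ S.fromSpecResidueField (genericPoint S) with hp
  have tX : IsPullback (eX ≫ u.fiberι _) gX₁ u p := sX.paste_horiz (IsPullback.of_hasPullback _ _)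
  have tY : IsPullback (eY ≫ v.fiberι _) gY₁ v p := sY.paste_horiz (IsPullback.of_hasPullback _ _)
  obtain ⟨_, ⟨V, hV, rfl⟩, hηV, -⟩ := S.isBasis_affineOpens.exists_subset_of_mem_open
    (Set.mem_univ (genericPoint S)) isOpen_univ
  replace hV : IsAffineOpen V := hV
  have hrange : Set.range p ⊆ Set.range hV.fromSpec := by
    rintro _ ⟨x, rfl⟩
    rw [IsAffineOpen.range_fromSpec, hp, Scheme.Hom.comp_apply,
      Scheme.fromSpecResidueField_apply]
    exact hηV
  haveI : IsAffine T₁ := inferInstance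
  haveI : IsNoetherianRing Γ(S, V) := IsLocallyNoetherian.component_noetherian ⟨V, hV⟩
  obtain ⟨φ, hφ⟩ := Spec.map_surjective (T₁.isoSpec.inv ≫ IsOpenImmersion.lift hV.fromSpec p hrange)
  obtain ⟨I, _, _, D, c, t, e, ⟨hc⟩, hD, ht, hce⟩ := exists_limit_presentation _ _ φ
  haveI : ∀ (i j : I) (f : i ⟶ j), IsAffineHom (D.map f) := fun i j f => by
    haveI := hD i; haveI := hD j; infer_instance
  haveI : ∀ i, CompactSpace (D.obj i) := fun i => by haveI := hD i; infer_instance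
  haveI : ∀ i, QuasiSeparatedSpace (D.obj i) := fun i => by haveI := hD i; infer_instance
  obtain ⟨i₀⟩ := IsCofiltered.nonempty (C := I)
  let a : ∀ i, D.obj i ⟶ S := fun i => t.app i ≫ hV.fromSpec
  let ε : c.pt ⟶ T₁ := e.inv ≫ T₁.isoSpec.inv
  have hεp : ε ≫ p = c.π.app i₀ ≫ a i₀ := by
    simp only [ε, a, Category.assoc, Iso.inv_comp_eq]
    rw [← Category.assoc (c.π.app i₀), ← Category.assoc e.hom, hce, hφ, Category.assoc,
      IsOpenImmersion.lift_fac]
    simp
  obtain ⟨Xc, Yc, gXc, gYc, fX, fY, cX, cY, gc, hgc, hQc⟩ :=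
    exists_baseChange tX tY hg hQ ε
  rw [hεp] at cX cY
  haveI : IsLocallyNoetherian S := inferInstance
  haveI : QuasiSeparated u :=
    haveI := LocallyOfFiniteType.isLocallyNoetherian u; inferInstance
  haveI : QuasiSeparated v :=
    haveI := LocallyOfFiniteType.isLocallyNoetherian v; inferInstance
  haveI : LocallyOfFinitePresentation u :=
    LocallyOfFinitePresentation.iff_locallyOfFiniteType.2 ‹_›
  haveI : LocallyOfFinitePresentation v :=
    LocallyOfFinitePresentation.iff_locallyOfFiniteType.2 ‹_›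
  obtain ⟨i, χ, Xi, Yi, gXi, gYi, pX, pY, iX, iY, gi, hgi, hQi⟩ := exists_stage_witness h D c hc i₀
    (pullback.snd u (a i₀)) (pullback.snd v (a i₀))
    (qX := pullback.lift fX (gXc ≫ c.π.app i₀) (by rw [cX.w, Category.assoc]))
    (qY := pullback.lift fY (gYc ≫ c.π.app i₀) (by rw [cY.w, Category.assoc]))
    (IsPullback.of_right (by simpa using cX) (by simp) (IsPullback.of_hasPullback u (a i₀)))
    (IsPullback.of_right (by simpa using cY) (by simp) (IsPullback.of_hasPullback v (a i₀)))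
    gc hgc hQc
  have hai : D.map χ ≫ a i₀ = a i := by simp [a]
  have jX := iX.paste_horiz (IsPullback.of_hasPullback u (a i₀))
  have jY := iY.paste_horiz (IsPullback.of_hasPullback v (a i₀))
  rw [hai] at jX jY
  have hsub : Set.range (a i) ⊆ ConsPropPair.locusPair (WitPred Q) u v := by
    rintro _ ⟨b, rfl⟩
    exact mem_locusPair_of_witness jX jY hgi hQi b
  have hmem : genericPoint S ∈ Set.range (a i) := by
    refine ⟨(T₁.isoSpec.hom ≫ e.hom ≫ c.π.app i) (Classical.arbitrary T₁), ?_⟩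
    rw [← Scheme.Hom.comp_apply]
    have : (T₁.isoSpec.hom ≫ e.hom ≫ c.π.app i) ≫ a i = p := by
      simp only [a, Category.assoc]
      rw [← Category.assoc (c.π.app i), ← Category.assoc e.hom, hce, hφ, Category.assoc,
        IsOpenImmersion.lift_fac, Iso.hom_inv_id_assoc]
    rw [this, hp, Scheme.Hom.comp_apply, Scheme.fromSpecResidueField_apply]
  haveI := hD i
  haveI := ht i
  haveI : LocallyOfFiniteType (a i) := inferInstance
  haveI : IsLocallyNoetherian (D.obj i) := LocallyOfFiniteType.isLocallyNoetherian (a i)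
  haveI : AlgebraicGeometry.IsNoetherian (D.obj i) := ⟨⟩
  haveI : QuasiCompact (a i) := inferInstance
  haveI : LocallyOfFinitePresentation (a i) :=
    LocallyOfFinitePresentation.iff_locallyOfFiniteType.2 ‹_›
  have hcons : IsConstructible (Set.range (a i)) := by
    rw [← Set.image_univ]
    exact (a i).isConstructible_image IsConstructible.univ
  obtain ⟨U, hU, hmemU, hUsub⟩ := ConsPropLib.exists_open_subset_of_generic hcons hmem
  exact ⟨_, interior_maximal (hUsub.trans hsub) hU hmemU⟩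

end Main

end Groth.Agent.ConsPairLib
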